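import Mathlib

/-!
Multiplication by a Teichmüller representative acts componentwise.
-/

set_option autoImplicit false

noncomputable section

universe u

namespace WittExtLib

variable (p : ℕ) [hp : Fact p.Prime]

private theorem aux {R : Type u} [CommRing R] [Invertible (p : R)] (r : R) (x : WittVector p R) :
    WittVector.teichmuller p r * x = WittVector.mk p fun i => r ^ p ^ i * x.coeff i := by
  refine (WittVector.ghostEquiv p R).injective ?_
  funext n
  show WittVector.ghostComponent n _ = WittVector.ghostComponent n _
  rw [map_mul, WittVector.ghostComponent_teichmuller, WittVector.ghostComponent_apply,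
    WittVector.ghostComponent_apply, wittPolynomial_eq_sum_C_mul_X_pow, map_sum, map_sum, Finset.mul_sum]
  refine Finset.sum_congr rfl fun i hi => ?_
  have hi' : i ≤ n := Nat.lt_succ_iff.1 (Finset.mem_range.1 hi)
  simp only [map_mul, map_pow, MvPolynomial.aeval_C, MvPolynomial.aeval_X, WittVector.coeff_mk, mul_pow, ← pow_mul,
    ← pow_add, Nat.add_sub_cancel' hi']
  ring

/-- Multiplication by a Teichmüller representative, in components. -/
theorem coeff_teichmuller_mul {R : Type u} [CommRing R] (r : R) (x : WittVector p R) (i : ℕ) :
    (WittVector.teichmuller p r * x).coeff i = r ^ p ^ i * x.coeff i := by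
  let A : Type := MvPolynomial (ℕ ⊕ Unit) ℤ
  let B : Type := MvPolynomial (ℕ ⊕ Unit) ℚ
  letI : Invertible (p : ℚ) := invertibleOfNonzero (Nat.cast_ne_zero.2 hp.out.ne_zero)
  letI : Invertible (p : B) :=
    (Invertible.map (MvPolynomial.C : ℚ →+* B) (p : ℚ)).copy _ (map_natCast _ p).symm
  let f : A →+* B := MvPolynomial.map (Int.castRingHom ℚ)
  have hf : Function.Injective f := MvPolynomial.map_injective _ Int.cast_injective
  let X : WittVector p A := WittVector.mk p fun j => MvPolynomial.X (Sum.inl j)
  let t : A := MvPolynomial.X (Sum.inr ())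
  have key : (WittVector.teichmuller p t * X).coeff i = t ^ p ^ i * X.coeff i := by
    refine hf ?_
    rw [← WittVector.map_coeff, map_mul, WittVector.map_teichmuller, aux, WittVector.coeff_mk, map_mul, map_pow,
      WittVector.map_coeff]
  let g : A →+* R := MvPolynomial.eval₂Hom (Int.castRingHom R) (Sum.elim (fun j => x.coeff j) fun _ => r)
  have hg : WittVector.map g X = x := WittVector.ext fun j => by
    rw [WittVector.map_coeff, WittVector.coeff_mk]; exact MvPolynomial.eval₂Hom_X' _ _ _
  have ht : g t = r := MvPolynomial.eval₂Hom_X' _ _ _
  have := congrArg g key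
  rw [← WittVector.map_coeff, map_mul, WittVector.map_teichmuller, ht, hg, map_mul, map_pow, ht,
    ← WittVector.map_coeff, hg] at this
  exact this

end WittExtLib
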