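import Groth.Agent.WittExtLib.Cocycle
import Groth.Agent.WittExtLib.Teich

/-!
The Witt cocycles under endomorphisms, and cocycles of the additive group with values in Witt vectors.
-/

set_option autoImplicit false
set_option linter.style.haveILetI false
set_option maxHeartbeats 1000000

noncomputable section

universe u

open WittGrp

namespace WittExtLib

variable {p : ℕ} [Fact p.Prime] {k : Type u} [Field k] {n m : ℕ}

/-- The interchange identity of a symmetric cocycle. -/
theorem four_term {A B : Type*} [AddCommGroup A] [AddCommGroup B] (f : A → A → B) (hs : ∀ a b, f a b = f b a)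
    (hc : ∀ a b c, f a b + f (a + b) c = f b c + f a (b + c)) (a a' b b' : A) :
    f (a + a') (b + b') = f a b + f a' b' + f (a + b) (a' + b') - f a a' - f b b' := by
  have e1 := hc (a + a') b b'
  have e2 := hc a a' b
  have e3 := hc (a + b) a' b'
  have e4 := hc a b a'
  rw [add_comm a' b, hs a' b] at e2
  rw [show a + a' + b = a + b + a' from add_right_comm _ _ _] at e1
  grind

/-- Scalar multiplication by a Teichmüller representative. -/
def scl (r : k) : TruncatedWittVector p n k →+ TruncatedWittVector p n k :=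
  AddMonoidHom.mulLeft (WittVector.truncate n (WittVector.teichmuller p r))

theorem coeff_scl (r : k) (v : TruncatedWittVector p n k) (i : Fin n) :
    (scl r v).coeff i = r ^ p ^ (i : ℕ) * v.coeff i := by
  show (WittVector.truncate n (WittVector.teichmuller p r) * v).coeff i = _
  conv_lhs => rw [← truncate_padW v]
  rw [← map_mul, WittVector.coeff_truncate, coeff_teichmuller_mul, padW, WittVector.coeff_mk, dif_pos i.isLt]

/-- The tail of a vector. -/
def tl (v : TruncatedWittVector p (n + 1) k) : TruncatedWittVector p n k :=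
  TruncatedWittVector.mk p fun j : Fin n => v.coeff ⟨(j : ℕ) + 1, by omega⟩

theorem shift_tl (v : TruncatedWittVector p (n + 1) k) (hv : v.coeff 0 = 0) :
    shift p (Nat.le_add_right n 1) (tl v) = v :=
  TruncatedWittVector.ext fun i => by
    rw [coeff_shift]
    split_ifs with hi
    · rw [tl, TruncatedWittVector.coeff_mk]
      congr 1
      exact Fin.ext (by dsimp only; omega)
    · rw [show i = 0 from Fin.ext (by simp only [Fin.val_zero]; omega), hv]

theorem tl_shift (w : TruncatedWittVector p n k) : tl (shift p (Nat.le_add_right n 1) w) = w :=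
  TruncatedWittVector.ext fun j => by
    rw [tl, TruncatedWittVector.coeff_mk, coeff_shift, dif_pos (by dsimp only; omega)]
    congr 1
    exact Fin.ext (by dsimp only; omega)

theorem shift_injective (h : n ≤ m) : Function.Injective (shift (R := k) p h) := fun x y e =>
  TruncatedWittVector.ext fun i => by
    have := congrArg (fun v => v.coeff (⟨(i : ℕ) + (m - n), by omega⟩ : Fin m)) e
    simp only [coeff_shift] at this
    rw [dif_pos (Nat.le_add_left _ _), dif_pos (Nat.le_add_left _ _)] at this
    simpa using this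

theorem isRegMap_tl {α : Type*} {ι : Type*} {c : ι → α → k} {φ : α → TruncatedWittVector p (n + 1) k}
    (hφ : IsRegMap c φ) : IsRegMap c fun a => tl (φ a) := fun i => by
  simp only [tl, TruncatedWittVector.coeff_mk]
  exact hφ _

/-- The vector of length one with given component. -/
def one1 : k →+ TruncatedWittVector p 1 k :=
  AddMonoidHom.mk' (fun t => TruncatedWittVector.mk p fun _ => t) fun s t =>
    TruncatedWittVector.ext fun i => by rw [Subsingleton.elim i 0, coeff_zero_add]; simp

theorem coeff_one1 (t : k) : (one1 (p := p) t).coeff 0 = t := TruncatedWittVector.coeff_mk _ _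

theorem one1_coeff (v : TruncatedWittVector p 1 k) : one1 (v.coeff 0) = v :=
  TruncatedWittVector.ext fun i => by rw [Subsingleton.elim i 0, coeff_one1]

/-- An additive map of `k` as a map of vectors of length one. -/
def vec1 (φ : k →+ k) : TruncatedWittVector p 1 k →+ TruncatedWittVector p 1 k :=
  AddMonoidHom.mk' (fun v => one1 (φ (v.coeff 0))) fun a b => by rw [coeff_zero_add, map_add, map_add]

theorem coeff_vec1 (φ : k →+ k) (v : TruncatedWittVector p 1 k) : (vec1 φ v).coeff 0 = φ (v.coeff 0) :=
  coeff_one1 _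

/-- The cocycle of the Witt vectors of length `m + 1` as an extension of the additive group. -/
def Tn (m : ℕ) (a b : TruncatedWittVector p 1 k) : TruncatedWittVector p m k :=
  tl (pad (Nat.le_add_left 1 m) a + pad (Nat.le_add_left 1 m) b - pad (Nat.le_add_left 1 m) (a + b))

theorem coeff_zero_pad (h : n + 1 ≤ m + 1) (v : TruncatedWittVector p (n + 1) k) :
    (pad h v).coeff 0 = v.coeff 0 := by
  rw [coeff_pad, dif_pos (by simp)]
  congr 1

theorem coeff_zero_sub' (x y : TruncatedWittVector p (m + 1) k) : (x - y).coeff 0 = x.coeff 0 - y.coeff 0 := by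
  obtain ⟨X, rfl⟩ := WittVector.truncate_surjective p (m + 1) _ x
  obtain ⟨Y, rfl⟩ := WittVector.truncate_surjective p (m + 1) _ y
  rw [← map_sub, WittVector.coeff_truncate, WittVector.coeff_truncate, WittVector.coeff_truncate]
  have h := WittVector.add_coeff_zero (X - Y) Y
  rw [sub_add_cancel] at h
  exact eq_sub_of_add_eq h.symm

theorem coeff_zero_add' (x y : TruncatedWittVector p (m + 1) k) : (x + y).coeff 0 = x.coeff 0 + y.coeff 0 := by
  have h := coeff_zero_sub' (x + y) y
  rw [add_sub_cancel_right] at h
  rw [h, sub_add_cancel]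

theorem pad_add_pad_one (a b : TruncatedWittVector p 1 k) :
    pad (Nat.le_add_left 1 m) a + pad (Nat.le_add_left 1 m) b =
      pad (Nat.le_add_left 1 m) (a + b) + shift p (Nat.le_add_right m 1) (Tn m a b) := by
  rw [Tn, shift_tl, add_sub_cancel]
  rw [coeff_zero_sub', coeff_zero_add', coeff_zero_pad (n := 0), coeff_zero_pad (n := 0), coeff_zero_pad (n := 0),
    coeff_zero_add, sub_self]

theorem Tn_symm (a b : TruncatedWittVector p 1 k) : Tn m a b = Tn m b a := by
  rw [Tn, Tn, add_comm (pad _ a), add_comm a]

theorem Tn_coc (a b c : TruncatedWittVector p 1 k) : Tn m a b + Tn m (a + b) c = Tn m b c + Tn m a (b + c) := by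
  refine shift_injective (Nat.le_add_right m 1) ?_
  rw [map_add, map_add, ← sub_eq_iff_eq_add'.2 (pad_add_pad_one a b), ← sub_eq_iff_eq_add'.2 (pad_add_pad_one b c),
    ← sub_eq_iff_eq_add'.2 (pad_add_pad_one (a + b) c), ← sub_eq_iff_eq_add'.2 (pad_add_pad_one a (b + c)),
    add_assoc a b c]
  abel

theorem reg_Tn : IsRegMap (c2 p k 1) fun ab => Tn m ab.1 ab.2 :=
  isRegMap_tl (((isRegMap_fst.pad _).add (isRegMap_snd.pad _)).sub ((isRegMap_fst.add isRegMap_snd).pad _))

/-- Pushing the restriction through the shift. -/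
theorem truncate_shift (h : n ≤ m) (w : TruncatedWittVector p m k) :
    TruncatedWittVector.truncate (Nat.add_le_add_right h 1) (shift p (Nat.le_add_right m 1) w) =
      shift p (Nat.le_add_right n 1) (TruncatedWittVector.truncate h w) :=
  TruncatedWittVector.ext fun i => by
    simp only [TruncatedWittVector.coeff_truncate, coeff_shift, Fin.val_castLE]
    split_ifs with h1 h2 h3 <;>
      first | rfl | (exfalso; omega) | (congr 1; exact Fin.ext (by simp only [Fin.val_castLE]; omega))

theorem truncate_pad_one (h : n ≤ m) (a : TruncatedWittVector p 1 k) :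
    TruncatedWittVector.truncate (Nat.add_le_add_right h 1) (pad (Nat.le_add_left 1 m) a) =
      pad (Nat.le_add_left 1 n) a :=
  TruncatedWittVector.ext fun i => by simp [TruncatedWittVector.coeff_truncate, coeff_pad]

theorem truncate_Tn (h : n ≤ m) (a b : TruncatedWittVector p 1 k) :
    TruncatedWittVector.truncate h (Tn m a b) = Tn n a b := by
  refine shift_injective (Nat.le_add_right n 1) ?_
  rw [← truncate_shift h, ← sub_eq_iff_eq_add'.2 (pad_add_pad_one (m := m) a b),
    ← sub_eq_iff_eq_add'.2 (pad_add_pad_one (m := n) a b), map_sub, map_add, truncate_pad_one h, truncate_pad_one h,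
    truncate_pad_one h]

theorem Tn_one_eq (a b : TruncatedWittVector p 1 k) : Tn 1 a b = one1 (Cn 1 a b) := by
  refine shift_injective (Nat.le_add_right 1 1) ?_
  have h1 := pad_add_pad_one (m := 1) a b
  rw [pad_add_pad, show emb 1 (Cn 1 a b) = shift p (Nat.le_add_right 1 1) (one1 (Cn 1 a b)) from rfl] at h1
  exact (add_left_cancel h1).symm

variable [CharP k p]

/-- Raising the components to a power of the characteristic. -/
abbrev frobIt (j : ℕ) : TruncatedWittVector p n k →+* TruncatedWittVector p n k :=
  truncMap p n (iterateFrobenius k p j)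

theorem coeff_frobIt (j : ℕ) (v : TruncatedWittVector p n k) (i : Fin n) :
    (frobIt j v).coeff i = v.coeff i ^ p ^ j := by rw [coeff_truncMap, iterateFrobenius_def]

theorem frobIt_pad (j : ℕ) (h : n ≤ m) (v : TruncatedWittVector p n k) :
    frobIt j (pad h v) = pad h (frobIt j v) :=
  TruncatedWittVector.ext fun i => by
    rw [coeff_frobIt, coeff_pad, coeff_pad]
    split_ifs
    · rw [coeff_frobIt]
    · rw [zero_pow (pow_ne_zero _ (Fact.out : p.Prime).ne_zero)]

omit [CharP k p] in
theorem scl_pad (r : k) (h : n ≤ m) (v : TruncatedWittVector p n k) : scl r (pad h v) = pad h (scl r v) :=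
  TruncatedWittVector.ext fun i => by
    rw [coeff_scl, coeff_pad, coeff_pad]
    split_ifs
    · rw [coeff_scl]
    · rw [mul_zero]

omit [CharP k p] in
theorem scl_shift (r : k) (w : TruncatedWittVector p n k) :
    scl r (shift p (Nat.le_add_right n 1) w) = shift p (Nat.le_add_right n 1) (scl (r ^ p) w) :=
  TruncatedWittVector.ext fun i => by
    rw [coeff_scl, coeff_shift, coeff_shift]
    split_ifs with hi
    · rw [coeff_scl, ← pow_mul, ← pow_succ']
      congr 2
      congr 1
      dsimp only
      omega
    · rw [mul_zero]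

theorem Cn_scl_frob (r : k) (j : ℕ) (a b : TruncatedWittVector p n k) :
    Cn n (scl r (frobIt j a)) (scl r (frobIt j b)) = r ^ p ^ n * Cn n a b ^ p ^ j := by
  rw [Cn, ← scl_pad, ← scl_pad, ← frobIt_pad, ← frobIt_pad, ← map_add, ← map_add, last, coeff_scl, coeff_frobIt]
  rfl

omit [CharP k p] in
theorem Cn_shift (h : n ≤ m) (a b : TruncatedWittVector p n k) :
    Cn m (shift p h a) (shift p h b) = Cn n a b := by
  have hs : ∀ v : TruncatedWittVector p n k, pad (Nat.le_add_right m 1) (shift p h v) =
      shift p (Nat.add_le_add_right h 1) (pad (Nat.le_add_right n 1) v) := fun v =>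
    TruncatedWittVector.ext fun i => by
      simp only [coeff_pad, coeff_shift]
      have := i.isLt
      split_ifs <;>
        first | rfl | (exfalso; simp_all; omega) | (exfalso; omega) | (congr 1 <;> exact Fin.ext (by simp <;> omega))
  rw [Cn, hs, hs, ← map_add, last, coeff_shift, dif_pos (by dsimp only; omega), Cn, last]
  congr 1
  exact Fin.ext (by dsimp only; omega)

theorem isRegMap_scl_frob (r : k) (j : ℕ) {α : Type*} {ι : Type*} {c : ι → α → k}
    {φ : α → TruncatedWittVector p n k} (hφ : IsRegMap c φ) : IsRegMap c fun a => scl r (frobIt j (φ a)) := fun i => by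
  simp only [coeff_scl, coeff_frobIt]
  exact rg_mul (rg_const c _) (pow_mem (hφ i) _)

variable [IsAlgClosed k]

theorem Cn_zero : Cn n (0 : TruncatedWittVector p n k) 0 = 0 := by
  rw [Cn, pad_zero, add_zero, last, TruncatedWittVector.coeff_zero]

/-- Multiples of the Witt cocycle are pulled back from longer vectors. -/
theorem exists_push (hnm : n ≤ m) {φ : k →+ k} (hφ : IsAddPoly (p := p) φ) :
    ∃ F : TruncatedWittVector p n k →+ TruncatedWittVector p m k, IsRegMap (c1 p k n) F ∧
      ∃ K ∈ Rg (c1 p k n), ∀ a b, φ (Cn n a b) = Cn m (F a) (F b) + cob K a b := by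
  obtain ⟨N, c, hc⟩ := hφ
  simp only [hc]
  clear hc
  induction N with
  | zero =>
    refine ⟨0, isRegMap_const 0, fun _ => 0, rg_const _ 0, fun a b => ?_⟩
    simp [cob, Cn_zero]
  | succ N ih =>
    obtain ⟨F, hF, K, hK, h⟩ := ih
    let r := (iterateFrobeniusEquiv k p n).symm (c N)
    let F' : TruncatedWittVector p n k →+ TruncatedWittVector p m k :=
      (shift p hnm).comp ((scl r).comp (frobIt N).toAddMonoidHom)
    have hF' : IsRegMap (c1 p k n) F' := by
      show IsRegMap _ fun a => shift p hnm (scl r (frobIt N a))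
      exact IsRegMap.shift (φ := fun a : TruncatedWittVector p n k => scl r (frobIt N a)) hnm
        (isRegMap_scl_frob (φ := fun v : TruncatedWittVector p n k => v) r N isRegMap_id)
    have h' : ∀ a b, Cn m (F' a) (F' b) = c N * Cn n a b ^ p ^ N := fun a b => by
      show Cn m (shift p hnm (scl r (frobIt N a))) (shift p hnm (scl r (frobIt N b))) = _
      rw [Cn_shift, Cn_scl_frob, ← iterateFrobeniusEquiv_def (R := k), RingEquiv.apply_symm_apply]
    let D : TruncatedWittVector p n k → k := fun u => Cn m (F u) (F' u)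
    have hD : D ∈ Rg (c1 p k n) := IsRegMap.comp₂ (reg_Cn m) hF hF'
    refine ⟨F + F', hF.add hF', fun u => K u - D u, rg_sub hK hD, fun a b => ?_⟩
    have hcm : IsCoc p k m (Cn m) := isCoc_Cn m
    have h4 := four_term (A := TruncatedWittVector p m k) (B := k) (Cn m) hcm.symm hcm.coc (F a) (F' a) (F b) (F' b)
    rw [Finset.sum_range_succ, h a b, ← h' a b]
    show _ = Cn m (F a + F' a) (F b + F' b) + _
    rw [h4]
    simp only [cob, D, map_add]
    ring

/-- Pull-backs of the Witt cocycle by additive maps are pushed out from longer vectors. -/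
theorem exists_pull (hnm : n ≤ m) {ψ : k →+ k} (hψ : IsAddPoly (p := p) ψ) :
    ∃ g : TruncatedWittVector p m k →+ TruncatedWittVector p n k, IsRegMap (c1 p k m) g ∧
      ∃ K : TruncatedWittVector p 1 k → TruncatedWittVector p n k, IsRegMap (c1 p k 1) K ∧
        ∀ a b, Tn n (vec1 ψ a) (vec1 ψ b) = g (Tn m a b) + cob K a b := by
  obtain ⟨N, c, hc⟩ := hψ
  suffices h : ∀ (χ : k →+ k) (_ : ∀ t, χ t = ∑ i ∈ Finset.range N, c i * t ^ p ^ i),
      ∃ g : TruncatedWittVector p m k →+ TruncatedWittVector p n k, IsRegMap (c1 p k m) g ∧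
      ∃ K : TruncatedWittVector p 1 k → TruncatedWittVector p n k, IsRegMap (c1 p k 1) K ∧
        ∀ a b, Tn n (vec1 χ a) (vec1 χ b) = g (Tn m a b) + cob K a b from h ψ hc
  clear hc ψ
  induction N with
  | zero =>
    intro χ hχ
    refine ⟨0, isRegMap_const 0, fun _ => -Tn n (0 : TruncatedWittVector p 1 k) 0, isRegMap_const _, fun a b => ?_⟩
    have h0 : vec1 (p := p) χ = 0 := AddMonoidHom.ext fun v => by
      show one1 (p := p) (χ (v.coeff 0)) = 0
      rw [hχ, Finset.range_zero, Finset.sum_empty, map_zero]
    simp [h0, cob]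
  | succ N ih =>
    intro χ hχ
    let χ₀ := addP (p := p) N c
    let χ₁ : k →+ k := AddMonoidHom.mk' (fun t => c N * t ^ p ^ N) fun a b => by rw [add_pow_char_pow, mul_add]
    obtain ⟨g, hg, K, hK, h⟩ := ih χ₀ fun _ => rfl
    let g₁ : TruncatedWittVector p m k →+ TruncatedWittVector p n k :=
      (TruncatedWittVector.truncate hnm).toAddMonoidHom.comp ((scl (c N ^ p)).comp (frobIt N).toAddMonoidHom)
    have h₁ : ∀ a b, Tn n (vec1 χ₁ a) (vec1 χ₁ b) = g₁ (Tn m a b) := fun a b => by
      show _ = TruncatedWittVector.truncate hnm (scl (c N ^ p) (frobIt N (Tn m a b)))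
      rw [← truncate_Tn hnm]
      congr 1
      refine shift_injective (Nat.le_add_right m 1) ?_
      rw [← scl_shift, ← truncMap_shift, ← sub_eq_iff_eq_add'.2 (pad_add_pad_one (vec1 χ₁ a) (vec1 χ₁ b)),
        ← sub_eq_iff_eq_add'.2 (pad_add_pad_one a b), map_sub, map_sub, map_add, map_add]
      have e : ∀ v, scl (c N) (frobIt N (pad (Nat.le_add_left 1 m) v)) =
          pad (Nat.le_add_left 1 m) (vec1 (p := p) χ₁ v) := fun v => by
        rw [frobIt_pad, scl_pad]
        congr 1
        refine TruncatedWittVector.ext fun i => ?_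
        rw [Subsingleton.elim i 0, coeff_scl, coeff_frobIt, coeff_vec1]
        simp [χ₁]
      rw [e, e, e, ← map_add]
    let D : TruncatedWittVector p 1 k → TruncatedWittVector p n k := fun u => Tn n (vec1 χ₀ u) (vec1 χ₁ u)
    have hreg : ∀ (χ' : k →+ k), IsAddPoly (p := p) χ' → IsRegMap (c1 p k 1) fun u => vec1 χ' u := fun χ' h' i => by
      simp only [Subsingleton.elim i 0, coeff_vec1]
      exact h'.reg (rg_coord (c1 p k 1) 0)
    have hD : IsRegMap (c1 p k 1) D := fun i => IsRegMap.comp₂ (reg_Tn i) (hreg χ₀ (isAddPoly_addP N c))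
      (hreg χ₁ ⟨N + 1, fun j => if j = N then c N else 0, fun t => by
        simp [χ₁, Finset.sum_range_succ, Finset.sum_eq_zero fun j hj =>
          show (if j = N then c N else 0) * t ^ p ^ j = 0 by
            rw [if_neg (Finset.mem_range.1 hj).ne, zero_mul]]⟩)
    have hg₁ : IsRegMap (c1 p k m) g₁ := by
      show IsRegMap _ fun a => TruncatedWittVector.truncate hnm (scl (c N ^ p) (frobIt N a))
      exact IsRegMap.truncate (φ := fun a : TruncatedWittVector p m k => scl (c N ^ p) (frobIt N a)) hnm
        (isRegMap_scl_frob (φ := fun v : TruncatedWittVector p m k => v) (c N ^ p) N isRegMap_id)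
    refine ⟨g + g₁, hg.add hg₁, fun u => K u + D u, hK.add hD,
      fun a b => ?_⟩
    have hv : ∀ u, vec1 (p := p) χ u = vec1 χ₀ u + vec1 χ₁ u := fun u => by
      refine eq_of_coeff_zero ?_
      rw [coeff_zero_add, coeff_vec1, coeff_vec1, coeff_vec1, hχ, Finset.sum_range_succ]
      rfl
    have h4 := four_term (A := TruncatedWittVector p 1 k) (B := TruncatedWittVector p n k) (Tn n)
      (fun x y => Tn_symm x y) (fun x y z => Tn_coc x y z) (vec1 χ₀ a) (vec1 χ₁ a) (vec1 χ₀ b) (vec1 χ₁ b)
    rw [hv, hv, h4, h a b, h₁ a b, AddMonoidHom.add_apply]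
    simp only [cob, D, map_add]
    abel

/-- Cocycles of the additive group with values in Witt vectors. -/
theorem classify_line : ∀ (n : ℕ) {f : TruncatedWittVector p 1 k → TruncatedWittVector p 1 k →
      TruncatedWittVector p n k}, IsRegMap (c2 p k 1) (fun ab => f ab.1 ab.2) → (∀ a b, f a b = f b a) →
    (∀ a b c, f a b + f (a + b) c = f b c + f a (b + c)) →
    ∃ ψ : k →+ k, IsAddPoly (p := p) ψ ∧ ∃ h : TruncatedWittVector p 1 k → TruncatedWittVector p n k,
      IsRegMap (c1 p k 1) h ∧ ∀ a b, f a b = Tn n (vec1 ψ a) (vec1 ψ b) + cob h a b := by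
  intro n
  induction n with
  | zero =>
    exact fun _ _ _ => ⟨0, ⟨0, fun _ => 0, fun t => by simp⟩, fun _ => 0, isRegMap_const 0,
      fun a b => TruncatedWittVector.ext fun i => i.elim0⟩
  | succ n ih =>
    intro f hf hs hc
    -- the multiples of the first cocycle
    have hline : ∀ φ : k →+ k, IsAddPoly (p := p) φ → ∃ ψ : k →+ k, IsAddPoly (p := p) ψ ∧
        ∃ K ∈ Rg (c1 p k 1), ∀ a b, φ (Cn 1 a b) = Cn 1 (vec1 ψ a) (vec1 ψ b) + cob K a b := fun φ hφ => by
      obtain ⟨F, hF, K, hK, h⟩ := exists_push (le_refl 1) hφ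
      let Q : k →+ k := AddMonoidHom.mk' (fun t => (F (one1 t)).coeff 0) fun a b => by
        rw [map_add, map_add, coeff_zero_add]
      have hQ : IsAddPoly (p := p) Q := by
        obtain ⟨P, hP⟩ := rg_exists_poly (hF 0)
        let q : Polynomial k := MvPolynomial.aeval (fun _ : Fin 1 => Polynomial.X) P
        have hq : ∀ t, Q t = q.eval t := fun t => by
          show (F (one1 t)).coeff 0 = (Polynomial.aeval t) (MvPolynomial.aeval (fun _ : Fin 1 => Polynomial.X) P)
          rw [hP, ← AlgHom.comp_apply, MvPolynomial.comp_aeval, MvPolynomial.aeval_eq_eval]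
          refine congrArg (fun v => MvPolynomial.eval v P) (funext fun i => ?_)
          rw [Subsingleton.elim i 0]
          simp [c1, coeff_one1]
        obtain ⟨N, c, hc'⟩ := WittGrpLib.exists_sum_frobenius (p := p) q fun a b => by simp only [← hq, map_add]
        exact ⟨N, c, fun t => by rw [hq, hc']⟩
      have e : ∀ v, vec1 Q v = F v := fun v => eq_of_coeff_zero (by
        rw [coeff_vec1]; show (F (one1 (v.coeff 0))).coeff 0 = _; rw [one1_coeff])
      exact ⟨Q, hQ, K, hK, fun a b => by rw [h a b, e, e]⟩
    rcases Nat.eq_zero_or_pos n with rfl | hn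
    · obtain ⟨φ, hφ, h, hh, he⟩ := classify_one (f := fun a b => (f a b).coeff 0)
        { reg := hf 0
          symm := fun a b => by rw [hs]
          coc := fun a b c => by rw [← coeff_zero_add, hc, coeff_zero_add] }
      obtain ⟨ψ, hψ, K, hK, hK'⟩ := hline φ hφ
      refine ⟨ψ, hψ, fun v => one1 (K v + h v), fun i => by
        simp only [Fin.fin_one_eq_zero i, coeff_one1]; exact rg_add hK hh, fun a b => eq_of_coeff_zero ?_⟩
      rw [he a b, hK' a b, Tn_one_eq, coeff_zero_add]
      simp only [cob, coeff_zero_sub', coeff_one1]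
      ring
    obtain ⟨ψ, hψ, h, hh, he⟩ := ih (f := fun a b => TruncatedWittVector.truncate (Nat.le_add_right n 1) (f a b))
      (hf.truncate _) (fun a b => by rw [hs]) fun a b c => by rw [← map_add, hc, map_add]
    have hvr : IsRegMap (c1 p k 1) fun u => vec1 ψ u := fun i => by
      simp only [Subsingleton.elim i 0, coeff_vec1]
      exact hψ.reg (rg_coord (c1 p k 1) 0)
    let h' := fun v => pad (Nat.le_add_right n 1) (h v)
    have hh' : IsRegMap (c1 p k 1) h' := hh.pad _
    let f' := fun a b => f a b - Tn (n + 1) (vec1 ψ a) (vec1 ψ b) - cob h' a b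
    have hf' : ∀ a b, TruncatedWittVector.truncate (Nat.le_add_right n 1) (f' a b) = 0 := fun a b => by
      simp only [f', cob, map_sub, he, truncate_Tn, h', truncate_pad]
      abel
    have hf'e : ∀ a b, emb n (last (f' a b)) = f' a b := fun a b => by
      have h0 := eq_pad_add_emb (f' a b)
      rwa [hf', pad_zero, zero_add] at h0
    have hreg' : IsRegMap (c2 p k 1) fun ab => f' ab.1 ab.2 := by
      refine (hf.sub (fun i => IsRegMap.comp₂ (reg_Tn i) ?_ ?_)).sub (((?_ : IsRegMap _ _).sub ?_).sub ?_)
      · exact fun i => isRegMap_fst.comp (hvr i)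
      · exact fun i => isRegMap_snd.comp (hvr i)
      · exact fun i => (isRegMap_fst.add isRegMap_snd).comp (hh' i)
      · exact fun i => isRegMap_fst.comp (hh' i)
      · exact fun i => isRegMap_snd.comp (hh' i)
    obtain ⟨φ, hφ, g, hg, hge⟩ := classify_one (f := fun a b => last (f' a b))
      { reg := hreg' _
        symm := fun a b => by simp only [f', cob]; rw [hs, Tn_symm, add_comm a b, sub_right_comm (h' _)]
        coc := fun a b c => by
          have e : f' a b + f' (a + b) c = f' b c + f' a (b + c) := by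
            have e1 := hc a b c
            have e2 := Tn_coc (m := n + 1) (vec1 ψ a) (vec1 ψ b) (vec1 ψ c)
            simp only [f', cob, map_add, add_assoc a b c]
            grind
          have e3 : emb (p := p) n (last (f' a b) + last (f' (a + b) c)) = emb n (last (f' b c) + last (f' a (b + c))) := by
            rw [map_add, map_add, hf'e, hf'e, hf'e, hf'e, e]
          have e4 := congrArg last e3
          rwa [last_emb, last_emb] at e4 }
    obtain ⟨ψ₂, hψ₂, K, hK, hK'⟩ := hline φ hφ
    -- the first cocycle becomes a coboundary in longer vectors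
    let r := WittVector.truncate (n := n + 1) (p := p) (R := k)
    let Θ : TruncatedWittVector p 2 k →+ TruncatedWittVector p (n + 1) k := shift p (Nat.succ_le_succ hn)
    let G := fun v => emb n (K v + g v) + Θ (pad (Nat.le_add_right 1 1) (vec1 ψ₂ v)) * (-1)
    have hG : IsRegMap (c1 p k 1) G := by
      have h2 : IsRegMap (c1 p k 1) fun u => vec1 ψ₂ u := fun i => by
        simp only [Subsingleton.elim i 0, coeff_vec1]
        exact hψ₂.reg (rg_coord (c1 p k 1) 0)
      simp only [G, mul_neg, mul_one]
      exact (isRegMap_emb (rg_add hK hg)).add ((h2.pad _).shift _).neg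
    refine ⟨ψ, hψ, fun v => h' v + G v, hh'.add hG, fun a b => ?_⟩
    have e1 : f a b = Tn (n + 1) (vec1 ψ a) (vec1 ψ b) + cob h' a b + f' a b := by simp only [f']; abel
    have e2 : f' a b = emb n (φ (Cn 1 a b) + cob g a b) := by rw [← hge, hf'e]
    have e3 := congrArg Θ (pad_add_pad (n := 1) (vec1 ψ₂ a) (vec1 ψ₂ b))
    have e4 : ∀ x : k, Θ (emb 1 x) = emb n x := fun x => TruncatedWittVector.ext fun i => by
      simp only [Θ, coeff_shift, coeff_emb]
      split_ifs <;> first | rfl | (exfalso; omega)
    rw [e1, e2, hK' a b]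
    rw [map_add, map_add, e4, ← map_add (vec1 ψ₂)] at e3
    simp only [cob, G, map_add, map_sub, mul_neg, mul_one] at e3 ⊢
    grind

end WittExtLib
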