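import Groth.Agent.WittExtLib.Ext
import Groth.Agent.WittExtLib.Classify
import Groth.Agent.WittGrpLib.HomLine

/-!
The universal properties of the extensions of Witt groups by Witt vectors one longer.
-/

set_option autoImplicit false
set_option linter.style.haveILetI false
set_option backward.isDefEq.respectTransparency false
set_option maxHeartbeats 1000000

noncomputable section

universe u

open CategoryTheory CategoryTheory.Limits MonoidalCategory CartesianMonoidalCategory MonObj AlgebraicGeometry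
open WittGrp WittGrpLib
open Groth.Agent

namespace WittExtLib

variable {p : ℕ} [Fact p.Prime] {k : Type u} [Field k] {n m : ℕ}

local notation "SK" => Spec (CommRingCat.of k)

theorem isRegMap_vec1 [CharP k p] {φ : k →+ k} (hφ : IsAddPoly (p := p) φ) {α : Type*} {κ : Type*} {c : κ → α → k}
    {v : α → TruncatedWittVector p 1 k} (hv : IsRegMap c v) : IsRegMap c fun a => vec1 φ (v a) := fun i => by
  simp only [Fin.fin_one_eq_zero i, coeff_vec1]
  exact hφ.reg (hv 0)

theorem isRegMap_one1 {α : Type*} {κ : Type*} {c : κ → α → k} {g : α → k} (hg : g ∈ Rg c) :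
    IsRegMap c fun a => one1 (p := p) (g a) := fun i => by
  simp only [Fin.fin_one_eq_zero i, coeff_one1]
  exact hg

theorem Tn_zero : Tn m (0 : TruncatedWittVector p 1 k) 0 = 0 := by
  refine shift_injective (Nat.le_add_right m 1) ?_
  have h := pad_add_pad_one (m := m) (0 : TruncatedWittVector p 1 k) 0
  simp only [pad_zero, add_zero, zero_add] at h
  rw [← h, map_zero]

theorem truncate_shift_eq_zero (w : TruncatedWittVector p m k) (h : n ≤ 1) :
    TruncatedWittVector.truncate (h.trans (Nat.le_add_left 1 m)) (shift p (Nat.le_add_right m 1) w) = 0 :=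
  TruncatedWittVector.ext fun i => by
    rw [TruncatedWittVector.coeff_truncate, coeff_shift, dif_neg (by simp only [Fin.val_castLE]; omega),
      TruncatedWittVector.coeff_zero]

theorem last_pad (v : TruncatedWittVector p n k) : last (pad (Nat.le_add_right n 1) v) = 0 := by
  rw [last, coeff_pad, dif_neg (lt_irrefl _)]

theorem emb_eq_shift (t : k) : emb (p := p) n t = shift p (Nat.le_add_left 1 n) (one1 t) := rfl

namespace ExtData

variable {E : Over (Spec (CommRingCat.of k))} [GrpObj E] [IsCommMonObj E]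
  {i : W p m (Spec (CommRingCat.of k)) ⟶ E} [IsMonHom i] {π : E ⟶ W p n (Spec (CommRingCat.of k))} [IsMonHom π]
  (D : ExtData n m E i π)

theorem sec_zero : D.sec 0 = D.inc (D.coc 0 0) := by
  have h := D.sec_mul 0 0
  rw [add_zero] at h
  exact mul_left_cancel h

theorem sec_zero_mul (w : TruncatedWittVector p m k) : D.sec 0 * D.inc w = D.inc (D.coc 0 0 + w) := by
  rw [D.sec_zero, D.inc_add]

theorem π_inc (hker : AlgGrp.IsKernel i π) (w : TruncatedWittVector p m k) : ev (D.inc w ≫ π) = 0 := by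
  rw [show D.inc w = D.sec 0 * D.inc (w - D.coc 0 0) by rw [sec_zero_mul, add_sub_cancel], D.sec_mul_inc_π hker]

theorem ρ_inc (w : TruncatedWittVector p m k) : ev (D.inc w ≫ D.ρ) = w - D.coc 0 0 := by
  rw [show D.inc w = D.sec 0 * D.inc (w - D.coc 0 0) by rw [sec_zero_mul, add_sub_cancel], D.sec_mul_inc_ρ]

theorem exists_inc (a : 𝟙_ (Over SK) ⟶ E) (h : ev (a ≫ π) = 0) : ∃ w, D.inc w = a := by
  refine ⟨D.coc 0 0 + ev (a ≫ D.ρ), ?_⟩
  rw [← D.sec_zero_mul]
  conv_rhs => rw [D.point_eq a, h]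

theorem inc_nsmul (N : ℕ) (w : TruncatedWittVector p m k) : D.inc (N • w) = D.inc w ^ N := by
  induction N with
  | zero =>
    rw [zero_smul, pow_zero]
    have h := D.inc_add 0 0
    rw [add_zero] at h
    exact left_eq_mul.1 h
  | succ N ih => rw [succ_nsmul, D.inc_add, ih, pow_succ]

end ExtData

theorem pow_comp' {A B : Over SK} [GrpObj A] [GrpObj B] (f : A ⟶ B) [IsMonHom f] (x : 𝟙_ (Over SK) ⟶ A) (N : ℕ) :
    (x ^ N) ≫ f = (x ≫ f) ^ N := by
  induction N with
  | zero => rw [pow_zero, pow_zero, MonObj.one_comp]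
  | succ N ih => rw [pow_succ, pow_succ, MonObj.mul_comp, ih]

variable [IsAlgClosed k] [CharP k p]

/-- Extensions of a Witt group by the additive group are push-outs of the Witt vectors one longer. -/
theorem existsUnique_pushout (n : ℕ) (hn : 1 ≤ n) (E : Over SK) [GrpObj E] [IsCommMonObj E] [Smooth E.hom]
    [QuasiCompact E.hom] (i : W p 1 SK ⟶ E) [IsMonHom i] (π : E ⟶ W p n SK) [IsMonHom π] [Surjective π.left]
    [Flat π.left] (hker : AlgGrp.IsKernel i π) :
    ∃! φ : W p 1 SK ⟶ W p 1 SK, IsMonHom φ ∧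
      ∃ g : W p (n + 1) SK ⟶ E, IsMonHom g ∧ V p SK (Nat.le_add_left 1 n) ≫ g = φ ≫ i ∧
        g ≫ π = R p SK (Nat.le_add_right n 1) := by
  obtain ⟨D⟩ := exists_extData E i π hker
  haveI : IsAffine (W p n SK).left := isAffine_W
  haveI : QuasiCompact π.left := by
    haveI : QuasiCompact (π.left ≫ (W p n SK).hom) := by rw [Over.w]; infer_instance
    exact QuasiCompact.of_comp π.left (W p n SK).hom
  haveI : IsAffine E.left := isAffine_of_extension i π hker
  haveI : IsSeparated E.hom := inferInstance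
  obtain ⟨φ, hφ, h, hh, hf⟩ := classify n (f := fun a b => (D.coc a b).coeff 0)
    { reg := D.regCoc 0
      symm := fun a b => by rw [D.coc_symm]
      coc := fun a b c => by rw [← coeff_zero_add, D.coc_coc, coeff_zero_add] }
  have hfull : ∀ a b, D.coc a b = one1 (φ (Cn n a b) + cob h a b) := fun a b => by rw [← hf, one1_coeff]
  let G : TruncatedWittVector p (n + 1) k → TruncatedWittVector p 1 k := fun x =>
    one1 (φ (last x) + h (TruncatedWittVector.truncate (Nat.le_add_right n 1) x))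
  have hG : IsRegMap (c1 p k (n + 1)) G := isRegMap_one1 (rg_add (hφ.reg reg_last)
    ((isRegMap_id.truncate (Nat.le_add_right n 1)).comp hh))
  obtain ⟨G', hG'⟩ := exists_hom_of_regMap hG
  let g : W p (n + 1) SK ⟶ E := (R p SK (Nat.le_add_right n 1) ≫ D.σ) * (G' ≫ i)
  have hg : ∀ a, a ≫ g = D.sec (TruncatedWittVector.truncate (Nat.le_add_right n 1) (ev a)) * D.inc (G (ev a)) :=
    fun a => by
      simp only [g, MonObj.comp_mul, ExtData.sec, ExtData.inc]
      rw [← ev_R, ← hG', evEquiv_symm_ev, evEquiv_symm_ev, Category.assoc, Category.assoc]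
  haveI hgm : IsMonHom g := isMonHom_of_points g fun x y => by
    rw [hg, hg, hg, D.mul_form, ev_mul, map_add, hfull]
    congr 2
    simp only [G, cob, ← map_add]
    congr 1
    have hl := cob_last (ev x) (ev y)
    rw [map_add, ← hl, cob, map_sub, map_sub]
    abel
  obtain ⟨φ', hφ'm, hφ'⟩ := exists_monHom_of_regMap (vec1 (p := p) φ) (isRegMap_vec1 hφ isRegMap_id)
  have hgV : V p SK (Nat.le_add_left 1 n) ≫ g = φ' ≫ i := by
    refine AVAmpleLib.hom_ext_of_points _ _ fun a => ?_
    rw [← Category.assoc, hg, ev_V, ← one1_coeff (ev a), ← emb_eq_shift, truncate_emb, D.sec_zero_mul,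
      ← Category.assoc, ← D.inc_ev, hφ', hfull, ← map_add]
    simp only [G, last_emb, truncate_emb, vec1, AddMonoidHom.mk'_apply, coeff_one1]
    congr 1
    simp [cob, Cn_zero]
  have hgπ : g ≫ π = R p SK (Nat.le_add_right n 1) := hom_ext_ev fun a => by
    rw [← Category.assoc, hg, D.sec_mul_inc_π hker, ev_R]
  refine ⟨φ', ⟨hφ'm, g, hgm, hgV, hgπ⟩, ?_⟩
  rintro φ₂ ⟨_, g₂, hg₂, hV₂, hπ₂⟩
  refine hom_ext_ev fun a => ?_
  obtain ⟨z, hz⟩ := exists_nsmul_eq (l := n) (ev (a ≫ V p SK (Nat.le_add_left 1 n))) fun j hj => by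
    rw [ev_V, coeff_shift, dif_neg (by omega)]
  obtain ⟨w, rfl⟩ := ev_surjective z
  have hw : w ^ p ^ n = a ≫ V p SK (Nat.le_add_left 1 n) := ev_injective (by rw [ev_pow, hz])
  obtain ⟨t, ht⟩ := D.exists_inc ((w ≫ g₂) / (w ≫ g)) (by
    rw [div_eq_mul_inv, MonObj.mul_comp, GrpObj.inv_comp, ← div_eq_mul_inv, Category.assoc, Category.assoc, hπ₂, hgπ,
      div_self', ev_one])
  have h1 : (w ^ p ^ n) ≫ g₂ = (w ^ p ^ n) ≫ g := by
    rw [pow_comp', pow_comp', ← div_eq_one, ← div_pow, ← ht, ← D.inc_nsmul, nsmul_eq_zero t hn,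
      ← zero_smul ℕ (0 : TruncatedWittVector p 1 k), D.inc_nsmul, pow_zero]
  rw [hw, Category.assoc, Category.assoc, hV₂, hgV] at h1
  have h2 : a ≫ φ₂ = a ≫ φ' := hker.hom_ext (by simpa using h1) (toUnit_unique _ _)
  rw [h2]

/-- Extensions of the additive group by a Witt group are pull-backs of the Witt vectors one longer. -/
theorem existsUnique_pullback (n : ℕ) (hn : 1 ≤ n) (E : Over SK) [GrpObj E] [IsCommMonObj E] [Smooth E.hom]
    [QuasiCompact E.hom] (i : W p n SK ⟶ E) [IsMonHom i] (π : E ⟶ W p 1 SK) [IsMonHom π] [Surjective π.left]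
    [Flat π.left] (hker : AlgGrp.IsKernel i π) :
    ∃! ψ : W p 1 SK ⟶ W p 1 SK, IsMonHom ψ ∧
      ∃ h : E ⟶ W p (n + 1) SK, IsMonHom h ∧ i ≫ h = V p SK (Nat.le_add_right n 1) ∧
        h ≫ R p SK (Nat.le_add_left 1 n) = π ≫ ψ := by
  obtain ⟨D⟩ := exists_extData E i π hker
  obtain ⟨ψ, hψ, h, hh, hf⟩ := classify_line n D.regCoc D.coc_symm D.coc_coc
  let Pf : TruncatedWittVector p 1 k → TruncatedWittVector p (n + 1) k := fun u =>
    pad (Nat.le_add_left 1 n) (vec1 ψ u) + shift p (Nat.le_add_right n 1) (-h u)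
  have hPf : IsRegMap (c1 p k 1) Pf :=
    ((isRegMap_vec1 hψ isRegMap_id).pad _).add (hh.neg.shift _)
  obtain ⟨P, hP⟩ := exists_hom_of_regMap hPf
  let g : E ⟶ W p (n + 1) SK := (π ≫ P) * (D.ρ ≫ V p SK (Nat.le_add_right n 1))
  have hg : ∀ a, ev (a ≫ g) = pad (Nat.le_add_left 1 n) (vec1 ψ (ev (a ≫ π))) +
      shift p (Nat.le_add_right n 1) (ev (a ≫ D.ρ) - h (ev (a ≫ π))) := fun a => by
    simp only [g, MonObj.comp_mul, ev_mul]
    rw [← Category.assoc, hP, ← Category.assoc, ev_V]
    simp only [Pf]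
    rw [add_assoc, ← map_add, neg_add_eq_sub]
  haveI hgm : IsMonHom g := isMonHom_of_points g fun x y => ev_injective (by
    have e : (x * y) = D.sec (ev (x ≫ π) + ev (y ≫ π)) *
        D.inc (D.coc (ev (x ≫ π)) (ev (y ≫ π)) + (ev (x ≫ D.ρ) + ev (y ≫ D.ρ))) := by
      conv_lhs => rw [D.point_eq x, D.point_eq y, D.mul_form]
    rw [ev_mul, hg, hg, hg, e, D.sec_mul_inc_π hker, D.sec_mul_inc_ρ, hf]
    have h2 := pad_add_pad_one (m := n) (vec1 ψ (ev (x ≫ π))) (vec1 ψ (ev (y ≫ π)))
    rw [← map_add (vec1 (p := p) ψ)] at h2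
    rw [add_add_add_comm (pad _ (vec1 ψ (ev (x ≫ π)))), h2]
    simp only [cob, map_add, map_sub]
    abel)
  obtain ⟨ψ', hψ'm, hψ'⟩ := exists_monHom_of_regMap (vec1 (p := p) ψ) (isRegMap_vec1 hψ isRegMap_id)
  have hgi : i ≫ g = V p SK (Nat.le_add_right n 1) := hom_ext_ev fun a => by
    rw [← Category.assoc, hg, ← D.inc_ev, D.π_inc hker, D.ρ_inc, map_zero, pad_zero, zero_add, ev_V]
    congr 1
    rw [hf]
    simp [cob, Tn_zero]
  have hgR : g ≫ R p SK (Nat.le_add_left 1 n) = π ≫ ψ' := hom_ext_ev fun a => by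
    rw [← Category.assoc, ev_R, hg, ← Category.assoc, hψ', map_add, truncate_pad]
    rw [truncate_shift_eq_zero _ le_rfl, add_zero]
  refine ⟨ψ', ⟨hψ'm, g, hgm, hgi, hgR⟩, ?_⟩
  rintro ψ₂ ⟨_, g₂, hg₂, hi₂, hR₂⟩
  refine hom_ext_ev fun u => ?_
  obtain ⟨a, rfl⟩ : ∃ a, a ≫ π = u := ⟨u ≫ D.σ, by rw [Category.assoc, D.σ_π, Category.comp_id]⟩
  obtain ⟨w, hw⟩ := D.exists_inc (a ^ p) (by
    rw [pow_comp', ev_pow]
    simpa using nsmul_eq_zero (l := 1) (ev (a ≫ π)) le_rfl)
  have h1 : p • (ev (a ≫ g₂) - ev (a ≫ g)) = 0 := by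
    rw [smul_sub, ← ev_pow, ← ev_pow, ← pow_comp', ← pow_comp', ← hw, ExtData.inc, Category.assoc, Category.assoc,
      hi₂, hgi, sub_self]
  rw [Category.assoc, Category.assoc, ← hR₂, ← hgR, ← Category.assoc, ← Category.assoc, ev_R, ev_R,
    ← sub_eq_zero, ← map_sub]
  refine TruncatedWittVector.ext fun j => ?_
  rw [TruncatedWittVector.coeff_truncate, TruncatedWittVector.coeff_zero,
    coeff_eq_zero_of_nsmul _ h1 _ (by simp only [Fin.val_castLE]; omega)]

/-- Extensions of a Witt group by the additive group are pull-backs along maps to longer Witt groups. -/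
theorem exists_pullback_long (n m : ℕ) (hnm : n ≤ m) (E : Over SK) [GrpObj E] [IsCommMonObj E] [Smooth E.hom]
    [QuasiCompact E.hom] (i : W p 1 SK ⟶ E) [IsMonHom i] (π : E ⟶ W p n SK) [IsMonHom π] [Surjective π.left]
    [Flat π.left] (hker : AlgGrp.IsKernel i π) :
    ∃ f : W p n SK ⟶ W p m SK, IsMonHom f ∧
      ∃ h : E ⟶ W p (m + 1) SK, IsMonHom h ∧ i ≫ h = V p SK (Nat.le_add_left 1 m) ∧
        h ≫ R p SK (Nat.le_add_right m 1) = π ≫ f := by
  obtain ⟨D⟩ := exists_extData E i π hker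
  obtain ⟨φ, hφ, h, hh, hf⟩ := classify n (f := fun a b => (D.coc a b).coeff 0)
    { reg := D.regCoc 0
      symm := fun a b => by rw [D.coc_symm]
      coc := fun a b c => by rw [← coeff_zero_add, D.coc_coc, coeff_zero_add] }
  have hfull : ∀ a b, D.coc a b = one1 (φ (Cn n a b) + cob h a b) := fun a b => by rw [← hf, one1_coeff]
  obtain ⟨F, hF, K, hK, hp⟩ := exists_push hnm hφ
  let J : TruncatedWittVector p n k → k := fun u => -(K u + h u)
  let Pf : TruncatedWittVector p n k → TruncatedWittVector p (m + 1) k := fun u =>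
    pad (Nat.le_add_right m 1) (F u) + emb m (J u)
  have hPf : IsRegMap (c1 p k n) Pf :=
    (hF.pad _).add (isRegMap_emb (neg_mem (rg_add hK hh)))
  obtain ⟨P, hP⟩ := exists_hom_of_regMap hPf
  let g : E ⟶ W p (m + 1) SK := (π ≫ P) * (D.ρ ≫ V p SK (Nat.le_add_left 1 m))
  have hg : ∀ a, ev (a ≫ g) = pad (Nat.le_add_right m 1) (F (ev (a ≫ π))) +
      emb m (J (ev (a ≫ π)) + (ev (a ≫ D.ρ)).coeff 0) := fun a => by
    simp only [g, MonObj.comp_mul, ev_mul]
    rw [← Category.assoc, hP, ← Category.assoc, ev_V, ← one1_coeff (ev (a ≫ D.ρ)), ← emb_eq_shift, coeff_one1]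
    simp only [Pf]
    rw [add_assoc, ← map_add]
  haveI hgm : IsMonHom g := isMonHom_of_points g fun x y => ev_injective (by
    have e : (x * y) = D.sec (ev (x ≫ π) + ev (y ≫ π)) *
        D.inc (D.coc (ev (x ≫ π)) (ev (y ≫ π)) + (ev (x ≫ D.ρ) + ev (y ≫ D.ρ))) := by
      conv_lhs => rw [D.point_eq x, D.point_eq y, D.mul_form]
    rw [ev_mul, hg, hg, hg, e, D.sec_mul_inc_π hker, D.sec_mul_inc_ρ, hfull]
    have h2 := pad_add_pad (F (ev (x ≫ π))) (F (ev (y ≫ π)))
    rw [← map_add F] at h2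
    rw [add_add_add_comm (pad _ (F (ev (x ≫ π)))), h2, add_assoc, ← map_add, ← map_add, coeff_zero_add, coeff_zero_add,
      coeff_one1, hp]
    congr 2
    simp only [J, cob]
    ring)
  obtain ⟨f, hfm, hf'⟩ := exists_monHom_of_regMap F hF
  refine ⟨f, hfm, g, hgm, hom_ext_ev fun a => ?_, hom_ext_ev fun a => ?_⟩
  · rw [← Category.assoc, hg, ← D.inc_ev, D.π_inc hker, D.ρ_inc, map_zero, pad_zero, zero_add, ev_V, emb_eq_shift,
      coeff_zero_sub, hfull, coeff_one1]
    congr 1
    refine eq_of_coeff_zero ?_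
    rw [coeff_one1, hp]
    simp [J, cob, Cn_zero]
    ring
  · rw [← Category.assoc, ev_R, hg, ← Category.assoc, hf', map_add, truncate_pad, truncate_emb, add_zero]

/-- Extensions of the additive group by a Witt group are push-outs along maps from longer Witt groups. -/
theorem exists_pushout_long (n m : ℕ) (hnm : n ≤ m) (E : Over SK) [GrpObj E] [IsCommMonObj E] [Smooth E.hom]
    [QuasiCompact E.hom] (i : W p n SK ⟶ E) [IsMonHom i] (π : E ⟶ W p 1 SK) [IsMonHom π] [Surjective π.left]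
    [Flat π.left] (hker : AlgGrp.IsKernel i π) :
    ∃ g : W p m SK ⟶ W p n SK, IsMonHom g ∧
      ∃ h : W p (m + 1) SK ⟶ E, IsMonHom h ∧ V p SK (Nat.le_add_right m 1) ≫ h = g ≫ i ∧
        h ≫ π = R p SK (Nat.le_add_left 1 m) := by
  obtain ⟨D⟩ := exists_extData E i π hker
  haveI : IsAffine (W p 1 SK).left := isAffine_W
  haveI : QuasiCompact π.left := by
    haveI : QuasiCompact (π.left ≫ (W p 1 SK).hom) := by rw [Over.w]; infer_instance
    exact QuasiCompact.of_comp π.left (W p 1 SK).hom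
  haveI : IsAffine E.left := isAffine_of_extension i π hker
  haveI : IsSeparated E.hom := inferInstance
  obtain ⟨ψ, hψ, h, hh, hf⟩ := classify_line n D.regCoc D.coc_symm D.coc_coc
  obtain ⟨gam, hgm0, K, hK, hp⟩ := exists_pull hnm hψ
  let y : TruncatedWittVector p (m + 1) k → TruncatedWittVector p m k := fun x =>
    tl (x - pad (Nat.le_add_left 1 m) (TruncatedWittVector.truncate (Nat.le_add_left 1 m) x))
  have hy : ∀ x, x = pad (Nat.le_add_left 1 m) (TruncatedWittVector.truncate (Nat.le_add_left 1 m) x) +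
      shift p (Nat.le_add_right m 1) (y x) := fun x => by
    simp only [y]
    rw [shift_tl, add_sub_cancel]
    rw [coeff_zero_sub', coeff_zero_pad (n := 0), TruncatedWittVector.coeff_truncate]
    exact sub_self _
  have hyu : ∀ x v w, x = pad (Nat.le_add_left 1 m) v + shift p (Nat.le_add_right m 1) w →
      TruncatedWittVector.truncate (Nat.le_add_left 1 m) x = v ∧ y x = w := fun x v w hx => by
    have e : TruncatedWittVector.truncate (Nat.le_add_left 1 m) x = v := by
      rw [hx, map_add, truncate_pad, truncate_shift_eq_zero _ le_rfl, add_zero]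
    refine ⟨e, shift_injective (Nat.le_add_right m 1) ?_⟩
    have e2 := hy x
    rw [e] at e2
    exact add_left_cancel (e2.symm.trans hx)
  have hry : IsRegMap (c1 p k (m + 1)) y :=
    isRegMap_tl (isRegMap_id.sub ((isRegMap_id.truncate (Nat.le_add_left 1 m)).pad _))
  let G : TruncatedWittVector p (m + 1) k → TruncatedWittVector p n k := fun x =>
    gam (y x) + (K (TruncatedWittVector.truncate (Nat.le_add_left 1 m) x) +
      h (TruncatedWittVector.truncate (Nat.le_add_left 1 m) x))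
  have hG : IsRegMap (c1 p k (m + 1)) G := fun j => by
    refine (IsRegMap.add (φ := fun x => gam (y x)) (ψ := fun x =>
      K (TruncatedWittVector.truncate (Nat.le_add_left 1 m) x) +
        h (TruncatedWittVector.truncate (Nat.le_add_left 1 m) x)) (fun j => hry.comp (hgm0 j)) ?_) j
    exact fun j => (isRegMap_id.truncate _).comp ((hK.add hh) j)
  obtain ⟨G', hG'⟩ := exists_hom_of_regMap hG
  let g : W p (m + 1) SK ⟶ E := (R p SK (Nat.le_add_left 1 m) ≫ D.σ) * (G' ≫ i)
  have hg : ∀ a, a ≫ g = D.sec (TruncatedWittVector.truncate (Nat.le_add_left 1 m) (ev a)) * D.inc (G (ev a)) :=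
    fun a => by
      simp only [g, MonObj.comp_mul, ExtData.sec, ExtData.inc]
      rw [← ev_R, ← hG', evEquiv_symm_ev, evEquiv_symm_ev, Category.assoc, Category.assoc]
  have hf2 : ∀ a b, D.coc a b = gam (Tn m a b) + cob (fun u => K u + h u) a b := fun a b => by
    rw [hf, hp]
    simp only [cob]
    abel
  haveI hgm : IsMonHom g := isMonHom_of_points g fun a b => by
    rw [hg, hg, hg, D.mul_form, ev_mul, map_add]
    congr 2
    have e : y (ev a + ev b) = Tn m (TruncatedWittVector.truncate (Nat.le_add_left 1 m) (ev a))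
        (TruncatedWittVector.truncate (Nat.le_add_left 1 m) (ev b)) + (y (ev a) + y (ev b)) := by
      refine (hyu (ev a + ev b) (TruncatedWittVector.truncate (Nat.le_add_left 1 m) (ev a) +
        TruncatedWittVector.truncate (Nat.le_add_left 1 m) (ev b)) _ ?_).2
      conv_lhs => rw [hy (ev a), hy (ev b)]
      rw [add_add_add_comm, pad_add_pad_one]
      simp only [map_add]
      abel
    simp only [G, e, map_add, hf2, cob]
    abel
  obtain ⟨gam', hgmm, hgam'⟩ := exists_monHom_of_regMap gam hgm0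
  refine ⟨gam', hgmm, g, hgm, AVAmpleLib.hom_ext_of_points _ _ fun a => ?_, hom_ext_ev fun a => ?_⟩
  · rw [← Category.assoc, hg, ev_V]
    obtain ⟨e1, e2⟩ := hyu (shift p (Nat.le_add_right m 1) (ev a)) 0 (ev a) (by rw [pad_zero, zero_add])
    rw [e1, D.sec_zero_mul, ← Category.assoc, ← D.inc_ev, hgam']
    congr 1
    simp only [G, e1, e2, hf2, cob, Tn_zero, map_zero, add_zero]
    abel
  · rw [← Category.assoc, hg, D.sec_mul_inc_π hker, ev_R]

end WittExtLib
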