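import Groth.Agent.WittExtLib.Amitsur
import Groth.Agent.WittGrpLib.Points
import Groth.Agent.AlgSpLib.AffineDescent

/-!
Extensions with a Witt group as kernel have sections: the corresponding torsors over affine bases are trivial.
-/

set_option autoImplicit false
set_option linter.style.haveILetI false
set_option backward.isDefEq.respectTransparency false
set_option maxHeartbeats 1000000

noncomputable section

universe u

open CategoryTheory CategoryTheory.Limits MonoidalCategory CartesianMonoidalCategory MonObj AlgebraicGeometry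
open WittGrp WittGrpLib
open Groth.Agent
open scoped TensorProduct

namespace WittExtLib

variable {p : ℕ} [Fact p.Prime] {S : Scheme.{u}} {n : ℕ} {E Q N : Over S}

/-- The translation isomorphism of the double of an extension. -/
def shear [GrpObj E] [GrpObj N] [GrpObj Q] (i : N ⟶ E) [IsMonHom i] (π : E ⟶ Q) [IsMonHom π]
    (hker : AlgGrp.IsKernel i π) : E ⊗ N ≅ pullback π π where
  hom := pullback.lift (fst E N) (fst E N * (snd E N ≫ i)) (by
    rw [MonObj.mul_comp, Category.assoc, hker.w, ← Category.assoc, toUnit_unique (snd E N ≫ toUnit N) (toUnit _),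
      ← Hom.one_def, _root_.mul_one])
  inv := lift (pullback.fst π π) (hker.lift ((pullback.fst π π)⁻¹ * pullback.snd π π) (toUnit _) (by
    rw [MonObj.mul_comp, GrpObj.inv_comp, pullback.condition, inv_mul_cancel, Hom.one_def]))
  hom_inv_id := by
    refine CartesianMonoidalCategory.hom_ext _ _ ?_ (hker.hom_ext ?_ (toUnit_unique _ _))
    · simp
    · rw [Category.id_comp, Category.assoc, Category.assoc, lift_snd_assoc, hker.lift_fst, MonObj.comp_mul,
        GrpObj.comp_inv, pullback.lift_fst, pullback.lift_snd, inv_mul_cancel_left]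
  inv_hom_id := by
    refine pullback.hom_ext ?_ ?_
    · simp
    · rw [Category.id_comp, Category.assoc, pullback.lift_snd, MonObj.comp_mul, lift_fst, ← Category.assoc,
        lift_snd, hker.lift_fst, mul_inv_cancel_left]

/-- An extension of an affine group by an affine group is affine. -/
theorem isAffine_of_extension [GrpObj E] [GrpObj N] [GrpObj Q] (i : N ⟶ E) [IsMonHom i] (π : E ⟶ Q) [IsMonHom π]
    (hker : AlgGrp.IsKernel i π) [Surjective π.left] [Flat π.left] [QuasiCompact π.left] [IsAffineHom N.hom]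
    [IsAffine Q.left] : IsAffine E.left := by
  haveI : IsAffineHom (fst E N).left := MorphismProperty.pullback_fst _ _ inferInstance
  have h := shear i π hker
  haveI : IsAffineHom (pullback.fst π π).left := by
    have e : (pullback.fst π π) = (shear i π hker).inv ≫ fst E N := by
      simp [shear]
    haveI : IsIso (shear i π hker).inv.left := (Over.forget S).map_isIso (shear i π hker).inv
    rw [e, Over.comp_left]
    infer_instance
  haveI : IsAffineHom π.left :=
    MorphismProperty.of_isPullback_of_descendsAlong (P := @IsAffineHom) (Q := @Surjective ⊓ @Flat ⊓ @QuasiCompact)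
      (((IsPullback.of_hasPullback π π).map (Over.forget _))) ⟨⟨‹_›, ‹_›⟩, ‹_›⟩ ‹_›
  exact isAffine_of_isAffineHom π.left

/-- Functions along a morphism to an affine scheme given by a ring map. -/
theorem fn_isoSpec_inv (Z : Scheme.{u}) [IsAffine Z] {R' : Type u} [CommRing R'] (φ : Γ(Z, ⊤) →+* R') (z : Γ(Z, ⊤)) :
    (Scheme.ΓSpecIso (CommRingCat.of R')).hom ((Spec.map (CommRingCat.ofHom φ) ≫ Z.isoSpec.inv).appTop z) = φ z := by
  have h : Z.isoSpec.inv.appTop ≫ (Scheme.ΓSpecIso Γ(Z, ⊤)).hom = 𝟙 _ := by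
    rw [← Scheme.toSpecΓ_appTop, ← Scheme.Hom.comp_appTop, Scheme.toSpecΓ_isoSpec_inv, Scheme.Hom.id_appTop]
  have h1 : ((Spec.map (CommRingCat.ofHom φ) ≫ Z.isoSpec.inv).appTop) ≫ (Scheme.ΓSpecIso (CommRingCat.of R')).hom =
      CommRingCat.ofHom φ := by
    rw [Scheme.Hom.comp_appTop, Category.assoc, Scheme.ΓSpecIso_naturality, ← Category.assoc]
    exact (congrArg (· ≫ CommRingCat.ofHom φ) h).trans (Category.id_comp _)
  exact congrArg (fun q => (ConcreteCategory.hom q) z) h1

variable (Q) [IsAffine Q.left]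

/-- The spectrum of an algebra over the functions of an affine base object, over that object. -/
def sT (R' : Type u) [CommRing R'] [Algebra Γ(Q.left, ⊤) R'] : Over S :=
  Over.mk (Spec.map (CommRingCat.ofHom (algebraMap Γ(Q.left, ⊤) R')) ≫ Q.left.isoSpec.inv ≫ Q.hom)

/-- The functions of `sT`. -/
def sTfn (R' : Type u) [CommRing R'] [Algebra Γ(Q.left, ⊤) R'] : Γ((sT Q R').left, ⊤) ≃+* R' :=
  (Scheme.ΓSpecIso (CommRingCat.of R')).commRingCatIsoToRingEquiv

/-- The point of the base. -/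
def qb (R' : Type u) [CommRing R'] [Algebra Γ(Q.left, ⊤) R'] : sT Q R' ⟶ Q :=
  Over.homMk (Spec.map (CommRingCat.ofHom (algebraMap Γ(Q.left, ⊤) R')) ≫ Q.left.isoSpec.inv) (by simp [sT])

theorem qb_appTop (R' : Type u) [CommRing R'] [Algebra Γ(Q.left, ⊤) R'] (a : Γ(Q.left, ⊤)) :
    sTfn Q R' ((qb Q R').left.appTop a) = algebraMap _ R' a := by
  show (Scheme.ΓSpecIso (CommRingCat.of R')).hom
    ((Spec.map (CommRingCat.ofHom (algebraMap Γ(Q.left, ⊤) R')) ≫ Q.left.isoSpec.inv).appTop a) = _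
  exact fn_isoSpec_inv Q.left _ a

variable {Q}

/-- The morphism attached to a map of algebras. -/
def toT {R' : Type u} [CommRing R'] [Algebra Γ(Q.left, ⊤) R'] {X : Over S} (q : X ⟶ Q) (ψ : R' →+* Γ(X.left, ⊤))
    (hψ : ∀ a, ψ (algebraMap Γ(Q.left, ⊤) R' a) = q.left.appTop a) : X ⟶ sT Q R' :=
  Over.homMk (X.left.toSpecΓ ≫ Spec.map (CommRingCat.ofHom ψ)) (by
    have h : CommRingCat.ofHom (algebraMap Γ(Q.left, ⊤) R') ≫ CommRingCat.ofHom ψ = q.left.appTop :=
      CommRingCat.hom_ext (RingHom.ext hψ)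
    show (X.left.toSpecΓ ≫ Spec.map _) ≫ Spec.map _ ≫ Q.left.isoSpec.inv ≫ Q.hom = X.hom
    rw [Category.assoc, ← Category.assoc (Spec.map (CommRingCat.ofHom ψ)), ← Spec.map_comp, h,
      ← Category.assoc, ← Scheme.toSpecΓ_naturality, Category.assoc, Scheme.toSpecΓ_isoSpec_inv_assoc, Over.w])

theorem toT_appTop {R' : Type u} [CommRing R'] [Algebra Γ(Q.left, ⊤) R'] {X : Over S} (q : X ⟶ Q)
    (ψ : R' →+* Γ(X.left, ⊤)) (hψ : ∀ a, ψ (algebraMap Γ(Q.left, ⊤) R' a) = q.left.appTop a)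
    (z : Γ((sT Q R').left, ⊤)) : (toT q ψ hψ).left.appTop z = ψ (sTfn Q R' z) := by
  show (X.left.toSpecΓ ≫ Spec.map (CommRingCat.ofHom ψ)).appTop z = _
  rw [Scheme.Hom.comp_appTop, Scheme.toSpecΓ_appTop, Scheme.ΓSpecIso_naturality]
  rfl

/-- Morphisms into an affine object are determined on functions. -/
theorem ext_appTop {X Y : Over S} [IsAffine Y.left] {f g : X ⟶ Y} (h : ∀ a, f.left.appTop a = g.left.appTop a) :
    f = g :=
  Over.OverMorphism.ext (ext_of_isAffine (CommRingCat.hom_ext (RingHom.ext h)))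

section Torsor

variable [GrpObj E] [IsCommMonObj E] [GrpObj Q] [IsAffine E.left]
  (i : W p n S ⟶ E) [IsMonHom i] (π : E ⟶ Q) [IsMonHom π]

/-- An extension of an affine group by a Witt group has an equivariant retraction onto the Witt group. -/
theorem exists_retraction (hker : AlgGrp.IsKernel i π) [Surjective π.left] [Flat π.left] :
    ∃ ρ : E ⟶ W p n S, ∀ (X : Over S) (x : X ⟶ E) (t : X ⟶ W p n S), (x * (t ≫ i)) ≫ ρ = (x ≫ ρ) * t := by
  letI algB : Algebra Γ(Q.left, ⊤) Γ(E.left, ⊤) := π.left.appTop.hom.toAlgebra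
  haveI hff : Module.FaithfullyFlat Γ(Q.left, ⊤) Γ(E.left, ⊤) :=
    (RingHom.faithfullyFlat_algebraMap_iff).1
      ((Flat.flat_and_surjective_iff_faithfullyFlat_of_isAffine π.left).1 ⟨‹_›, ‹_›⟩)
  let A : Type u := Γ(Q.left, ⊤)
  let B : Type u := Γ(E.left, ⊤)
  -- points of the extension over algebras
  have hpt : ∀ (R' : Type u) [CommRing R'] [Algebra A R'] (φ : B →ₐ[A] R'),
      ∃ x : sT Q R' ⟶ E, x ≫ π = qb Q R' ∧ ∀ b, sTfn Q R' (x.left.appTop b) = φ b := by
    intro R' _ _ φ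
    have hb : ∀ b, sTfn Q R' ((Spec.map (CommRingCat.ofHom φ.toRingHom) ≫ E.left.isoSpec.inv).appTop b) = φ b := by
      intro b
      show (Scheme.ΓSpecIso (CommRingCat.of R')).hom
        ((Spec.map (CommRingCat.ofHom φ.toRingHom) ≫ E.left.isoSpec.inv).appTop b) = _
      exact fn_isoSpec_inv E.left φ.toRingHom b
    have hq : (Spec.map (CommRingCat.ofHom φ.toRingHom) ≫ E.left.isoSpec.inv) ≫ π.left = (qb Q R').left := by
      refine ext_of_isAffine (CommRingCat.hom_ext (RingHom.ext fun a => (sTfn Q R').injective ?_))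
      show sTfn Q R' (((Spec.map _ ≫ E.left.isoSpec.inv) ≫ π.left).appTop a) = sTfn Q R' ((qb Q R').left.appTop a)
      rw [qb_appTop, Scheme.Hom.comp_appTop]
      exact (hb (π.left.appTop a)).trans (φ.commutes a)
    refine ⟨Over.homMk (Spec.map (CommRingCat.ofHom φ.toRingHom) ≫ E.left.isoSpec.inv) ?_,
      Over.OverMorphism.ext hq, hb⟩
    show _ ≫ E.hom = (sT Q R').hom
    rw [← Over.w π, ← Category.assoc, hq]
    exact Over.w (qb Q R')
  choose pE hpEπ hpEb using hpt
  have hnat : ∀ (R' : Type u) [CommRing R'] [Algebra A R'] (φ : B →ₐ[A] R') (X : Over S) (q : X ⟶ Q)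
      (ψ : R' →+* Γ(X.left, ⊤)) (hψ : ∀ a, ψ (algebraMap A R' a) = q.left.appTop a) (x : X ⟶ E),
      (∀ b, ψ (φ b) = x.left.appTop b) → toT q ψ hψ ≫ pE R' φ = x := by
    intro R' _ _ φ X q ψ hψ x hx
    refine ext_appTop fun b => ?_
    rw [Over.comp_left, Scheme.Hom.comp_appTop, CommRingCat.comp_apply, toT_appTop, hpEb, hx]
  let iL : B →ₐ[A] B ⊗[A] B := Algebra.TensorProduct.includeLeft
  let iR : B →ₐ[A] B ⊗[A] B := Algebra.TensorProduct.includeRight
  have hd : ((pE _ iL)⁻¹ * pE _ iR) ≫ π = toUnit _ ≫ η[Q] := by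
    rw [MonObj.mul_comp, GrpObj.inv_comp, hpEπ, hpEπ, inv_mul_cancel, Hom.one_def]
  let τ : sT Q (B ⊗[A] B) ⟶ W p n S := hker.lift _ (toUnit _) hd
  have hτ : τ ≫ i = (pE _ iL)⁻¹ * pE _ iR := hker.lift_fst _ _ _
  let t : TruncatedWittVector p n (B ⊗[A] B) := truncMap p n (sTfn Q _).toRingHom (pts p _ (Additive.ofMul τ))
  have hti : ∀ X : Over S, ∀ a b : X ⟶ W p n S, a ≫ i = b ≫ i → a = b := fun X a b h =>
    hker.hom_ext h (toUnit_unique _ _)
  -- evaluation of the cocycle at a pair of points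
  have hval : ∀ (X : Over S) (ψ : B ⊗[A] B →+* Γ(X.left, ⊤)) (x x' : X ⟶ E) (d : X ⟶ W p n S),
      x ≫ π = x' ≫ π → (∀ b, ψ (iL b) = x.left.appTop b) → (∀ b, ψ (iR b) = x'.left.appTop b) →
      d ≫ i = x⁻¹ * x' → truncMap p n ψ t = pts p X (Additive.ofMul d) := by
    intro X ψ x x' d hq hL hR hdi
    have hψ : ∀ a, ψ (algebraMap A (B ⊗[A] B) a) = (x ≫ π).left.appTop a := fun a => by
      rw [← AlgHom.commutes iL, hL, Over.comp_left, Scheme.Hom.comp_appTop]
      rfl
    have hm : toT (x ≫ π) ψ hψ ≫ τ = d := hti X _ _ (by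
      rw [Category.assoc, hτ, MonObj.comp_mul, GrpObj.comp_inv, hnat _ iL X _ ψ hψ x hL, hnat _ iR X _ ψ hψ x' hR, hdi])
    rw [← hm, pts_comp]
    refine TruncatedWittVector.ext fun l => ?_
    simp only [t, coeff_truncMap]
    exact (toT_appTop _ _ _ _).symm
  have hcoc : truncMap p n (WittDescLib.g12 A B).toRingHom t + truncMap p n (WittDescLib.g23 A B).toRingHom t =
      truncMap p n (WittDescLib.g13 A B).toRingHom t := by
    let R3 : Type u := B ⊗[A] (B ⊗[A] B)
    let e0 : B →ₐ[A] R3 := (WittDescLib.g12 A B).comp iL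
    let e1 : B →ₐ[A] R3 := (WittDescLib.g12 A B).comp iR
    let e2 : B →ₐ[A] R3 := (WittDescLib.g23 A B).comp iR
    let X3 := sT Q R3
    have hex : ∀ f g : B →ₐ[A] R3, ∃ d : X3 ⟶ W p n S, d ≫ i = (pE R3 f)⁻¹ * pE R3 g := fun f g =>
      ⟨hker.lift _ (toUnit _) (by rw [MonObj.mul_comp, GrpObj.inv_comp, hpEπ, hpEπ, inv_mul_cancel, Hom.one_def]),
        hker.lift_fst _ _ _⟩
    obtain ⟨d01, hd01⟩ := hex e0 e1
    obtain ⟨d12, hd12⟩ := hex e1 e2
    have hsum : (d01 * d12) ≫ i = (pE R3 e0)⁻¹ * pE R3 e2 := by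
      rw [MonObj.mul_comp, hd01, hd12]; group
    have hv : ∀ (g : B ⊗[A] B →ₐ[A] R3) (f f' : B →ₐ[A] R3) (d : X3 ⟶ W p n S), g.comp iL = f → g.comp iR = f' →
        d ≫ i = (pE R3 f)⁻¹ * pE R3 f' →
        truncMap p n g.toRingHom t = truncMap p n (sTfn Q R3).toRingHom (pts p X3 (Additive.ofMul d)) := by
      intro g f f' d hf hf' hdd
      rw [← hval X3 ((sTfn Q R3).symm.toRingHom.comp g.toRingHom) (pE R3 f) (pE R3 f') d (by rw [hpEπ, hpEπ]) ?_ ?_ hdd]
      · refine Eq.trans ?_ (RingHom.congr_fun (truncMap_comp p n _ _) t)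
        refine congrArg (fun F : B ⊗[A] B →+* R3 => truncMap p n F t) (RingHom.ext fun z => ?_)
        exact ((sTfn Q R3).apply_symm_apply (g z)).symm
      · intro b
        refine (sTfn Q R3).injective ?_
        rw [hpEb, ← hf]
        exact (sTfn Q R3).apply_symm_apply (g (iL b))
      · intro b
        refine (sTfn Q R3).injective ?_
        rw [hpEb, ← hf']
        exact (sTfn Q R3).apply_symm_apply (g (iR b))
    rw [hv (WittDescLib.g12 A B) e0 e1 d01 rfl rfl hd01,
      hv (WittDescLib.g23 A B) e1 e2 d12 (AlgHom.ext fun b => WittDescLib.g23_tmul A B b 1) rfl hd12,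
      hv (WittDescLib.g13 A B) e0 e2 (d01 * d12) (AlgHom.ext fun b => WittDescLib.g13_tmul A B b 1)
        (AlgHom.ext fun b => WittDescLib.g13_tmul A B 1 b) hsum,
      ← map_add, ← pts_mul]
  obtain ⟨y, hy⟩ := exists_coboundary_witt A B n t hcoc
  refine ⟨mkPt y, fun X x d => ext_pts ?_⟩
  have hπ : x ≫ π = (x * (d ≫ i)) ≫ π := by
    rw [MonObj.mul_comp, Category.assoc, hker.w, ← Category.assoc, toUnit_unique (d ≫ toUnit _) (toUnit _),
      ← Hom.one_def, _root_.mul_one]
  letI algX : Algebra A Γ(X.left, ⊤) := (x ≫ π).left.appTop.hom.toAlgebra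
  let ξ : B →ₐ[A] Γ(X.left, ⊤) :=
    { x.left.appTop.hom with
      commutes' := fun a => by
        show x.left.appTop (π.left.appTop a) = (x ≫ π).left.appTop a
        rw [Over.comp_left, Scheme.Hom.comp_appTop]; rfl }
  let ξ' : B →ₐ[A] Γ(X.left, ⊤) :=
    { (x * (d ≫ i)).left.appTop.hom with
      commutes' := fun a => by
        show (x * (d ≫ i)).left.appTop (π.left.appTop a) = (x ≫ π).left.appTop a
        rw [hπ, Over.comp_left, Scheme.Hom.comp_appTop]; rfl }
  let ψ : B ⊗[A] B →ₐ[A] Γ(X.left, ⊤) := Algebra.TensorProduct.lift ξ ξ' fun _ _ => Commute.all _ _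
  have h1 := hval X ψ.toRingHom x (x * (d ≫ i)) d hπ
    (fun b => by show ψ (b ⊗ₜ 1) = _; rw [Algebra.TensorProduct.lift_tmul, map_one, _root_.mul_one]; rfl)
    (fun b => by show ψ ((1 : B) ⊗ₜ b) = _; rw [Algebra.TensorProduct.lift_tmul, map_one, _root_.one_mul]; rfl)
    (by rw [inv_mul_cancel_left])
  rw [pts_mul, pts_comp, pts_comp, pts_mkPt, ← h1, ← hy, map_sub, ← RingHom.comp_apply, ← RingHom.comp_apply,
    ← truncMap_comp, ← truncMap_comp, add_comm]
  refine eq_add_of_sub_eq ?_ |>.trans (by rfl)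
  refine congrArg₂ (fun f g => truncMap p n f y - truncMap p n g y) (RingHom.ext fun b => ?_) (RingHom.ext fun b => ?_)
  · show (x * (d ≫ i)).left.appTop b = ψ ((1 : B) ⊗ₜ b)
    rw [Algebra.TensorProduct.lift_tmul, map_one, _root_.one_mul]; rfl
  · show x.left.appTop b = ψ (b ⊗ₜ 1)
    rw [Algebra.TensorProduct.lift_tmul, map_one, _root_.mul_one]; rfl

end Torsor

end WittExtLib
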