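import Groth.Agent.WittExtLib.Regular
import Groth.Agent.GaDualLib.Sym
import Groth.Agent.WittGrpLib.Vec
import Groth.Agent.WittGrpLib.Additive

/-!
Regular symmetric cocycles on Witt groups with values in the additive group.
-/

set_option autoImplicit false
set_option linter.style.haveILetI false
set_option maxHeartbeats 1000000

noncomputable section

universe u

open WittGrp GaDualLib

namespace WittExtLib

variable {p : ℕ} [Fact p.Prime] {k : Type u} [Field k] {n m : ℕ}

/-- Padding with zeros. -/
def pad (h : n ≤ m) (v : TruncatedWittVector p n k) : TruncatedWittVector p m k :=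
  WittVector.truncate m (padW v)

theorem truncate_pad (h : n ≤ m) (v : TruncatedWittVector p n k) :
    TruncatedWittVector.truncate h (pad h v) = v := by
  rw [pad, TruncatedWittVector.truncate_wittVector_truncate, truncate_padW]

theorem coeff_pad (h : n ≤ m) (v : TruncatedWittVector p n k) (i : Fin m) :
    (pad h v).coeff i = if hi : (i : ℕ) < n then v.coeff ⟨i, hi⟩ else 0 := by
  rw [pad, WittVector.coeff_truncate, padW, WittVector.coeff_mk]

theorem pad_zero (h : n ≤ m) : pad (p := p) (k := k) h 0 = 0 :=
  TruncatedWittVector.ext fun i => by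
    rw [coeff_pad]
    split_ifs <;> simp [TruncatedWittVector.coeff_zero]

theorem IsRegMap.pad {α : Type*} {ι : Type*} {c : ι → α → k} (h : n ≤ m) {φ : α → TruncatedWittVector p n k}
    (hφ : IsRegMap c φ) : IsRegMap c fun a => WittExtLib.pad h (φ a) := fun i => by
  simp only [coeff_pad]
  split_ifs
  · exact hφ _
  · exact rg_const c 0

/-- The last component. -/
def last (v : TruncatedWittVector p (n + 1) k) : k := v.coeff ⟨n, Nat.lt_succ_self n⟩

/-- A scalar in the last component. -/
def emb (n : ℕ) : k →+ TruncatedWittVector p (n + 1) k :=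
  AddMonoidHom.mk' (fun c => lastIncl n (TruncatedWittVector.mk p fun _ => c)) fun a b => by
    rw [← map_add]
    refine congrArg _ (TruncatedWittVector.ext fun i => ?_)
    rw [Subsingleton.elim i 0, coeff_zero_add]
    simp

theorem coeff_emb (c : k) (i : Fin (n + 1)) : (emb (p := p) n c).coeff i = if (i : ℕ) = n then c else 0 := by
  show (shift p (Nat.le_add_left 1 n) (TruncatedWittVector.mk p fun _ => c)).coeff i = _
  rw [coeff_shift]
  have := i.isLt
  split_ifs with h1 h2 <;> first | (exfalso; omega) | rw [TruncatedWittVector.coeff_mk] | rfl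

theorem last_emb (c : k) : last (emb (p := p) n c) = c := by rw [last, coeff_emb, if_pos rfl]

theorem truncate_emb (c : k) :
    TruncatedWittVector.truncate (Nat.le_add_right n 1) (emb (p := p) n c) = 0 :=
  TruncatedWittVector.ext fun i => by
    rw [TruncatedWittVector.coeff_truncate, coeff_emb, if_neg (by simp; omega), TruncatedWittVector.coeff_zero]

theorem eq_pad_add_emb (x : TruncatedWittVector p (n + 1) k) :
    pad (Nat.le_add_right n 1) (TruncatedWittVector.truncate (Nat.le_add_right n 1) x) + emb n (last x) = x := by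
  set v := TruncatedWittVector.truncate (Nat.le_add_right n 1) x
  rw [show emb n (last x) = WittVector.truncate (n + 1) (padW (emb n (last x))) from (truncate_padW _).symm, pad,
    ← map_add]
  refine TruncatedWittVector.ext fun i => ?_
  rw [WittVector.coeff_truncate, WittVector.coeff_add_of_disjoint _ _ _ fun j => ?_]
  · simp only [padW, WittVector.coeff_mk, dif_pos i.isLt, coeff_emb]
    by_cases hi : (i : ℕ) = n
    · rw [dif_neg (by omega), if_pos hi, zero_add, last]
      congr 1
      exact Fin.ext hi.symm
    · rw [dif_pos (show (i : ℕ) < n by omega), if_neg hi, add_zero, TruncatedWittVector.coeff_truncate]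
      congr 1
  · simp only [padW, WittVector.coeff_mk]
    by_cases hj : j < n
    · right
      split_ifs
      · rw [coeff_emb, if_neg (by dsimp only; omega)]
      · rfl
    · left
      rw [dif_neg hj]

theorem last_add_emb (x : TruncatedWittVector p (n + 1) k) (c : k) : last (x + emb n c) = last x + c := by
  have h1 : TruncatedWittVector.truncate (Nat.le_add_right n 1) (x + emb n c) =
      TruncatedWittVector.truncate (Nat.le_add_right n 1) x := by rw [map_add, truncate_emb, add_zero]
  have h2 := eq_pad_add_emb (x + emb n c)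
  rw [h1] at h2
  have h3 : emb n (last (x + emb n c)) = emb (p := p) n (last x + c) := by
    have h4 := eq_pad_add_emb x
    rw [map_add]
    generalize pad (Nat.le_add_right n 1) (TruncatedWittVector.truncate (Nat.le_add_right n 1) x) = u at h2 h4
    apply add_left_cancel (a := u)
    rw [h2, ← add_assoc, h4]
  exact (last_emb _).symm.trans ((congrArg last h3).trans (last_emb _))

/-- The cocycle of the Witt vectors of length `n + 1` over those of length `n`. -/
def Cn (n : ℕ) (a b : TruncatedWittVector p n k) : k :=
  last (pad (Nat.le_add_right n 1) a + pad (Nat.le_add_right n 1) b)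

/-- The coboundary of a function. -/
def cob {A : Type*} [AddCommGroup A] {B : Type*} [AddCommGroup B] (h : A → B) (a b : A) : B := h (a + b) - h a - h b

theorem pad_add_pad (a b : TruncatedWittVector p n k) :
    pad (Nat.le_add_right n 1) a + pad (Nat.le_add_right n 1) b =
      pad (Nat.le_add_right n 1) (a + b) + emb n (Cn n a b) := by
  conv_lhs => rw [← eq_pad_add_emb (pad (Nat.le_add_right n 1) a + pad (Nat.le_add_right n 1) b)]
  rw [map_add, truncate_pad, truncate_pad]
  rfl

theorem cob_last (a b : TruncatedWittVector p (n + 1) k) :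
    cob last a b = Cn n (TruncatedWittVector.truncate (Nat.le_add_right n 1) a)
      (TruncatedWittVector.truncate (Nat.le_add_right n 1) b) := by
  set a' := TruncatedWittVector.truncate (Nat.le_add_right n 1) a
  set b' := TruncatedWittVector.truncate (Nat.le_add_right n 1) b
  have h : a + b = (pad (Nat.le_add_right n 1) a' + pad (Nat.le_add_right n 1) b') + emb n (last a + last b) := by
    conv_lhs => rw [← eq_pad_add_emb a, ← eq_pad_add_emb b]
    rw [map_add]; abel
  rw [cob, h, last_add_emb, Cn]
  ring

variable (p k) in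
/-- Regular symmetric cocycles. -/
structure IsCoc (n : ℕ) (f : TruncatedWittVector p n k → TruncatedWittVector p n k → k) : Prop where
  reg : (fun ab : TruncatedWittVector p n k × TruncatedWittVector p n k => f ab.1 ab.2) ∈ Rg (c2 p k n)
  symm : ∀ a b, f a b = f b a
  coc : ∀ a b c, f a b + f (a + b) c = f b c + f a (b + c)

/-- Additive polynomials. -/
def IsAddPoly (φ : k →+ k) : Prop :=
  ∃ (N : ℕ) (c : ℕ → k), ∀ t, φ t = ∑ i ∈ Finset.range N, c i * t ^ p ^ i

variable [CharP k p]

/-- The additive map with given coefficients. -/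
def addP (N : ℕ) (c : ℕ → k) : k →+ k :=
  AddMonoidHom.mk' (fun t => ∑ i ∈ Finset.range N, c i * t ^ p ^ i) fun a b => by
    simp [add_pow_char_pow, mul_add, Finset.sum_add_distrib]

theorem isAddPoly_addP (N : ℕ) (c : ℕ → k) : IsAddPoly (p := p) (addP (p := p) N c) := ⟨N, c, fun _ => rfl⟩

theorem IsAddPoly.reg {φ : k →+ k} (hφ : IsAddPoly (p := p) φ) {α : Type*} {ι : Type*} {c : ι → α → k} {g : α → k}
    (hg : g ∈ Rg c) : (fun a => φ (g a)) ∈ Rg c := by
  obtain ⟨N, d, hd⟩ := hφ
  have : (fun a => φ (g a)) = ∑ i ∈ Finset.range N, (algebraMap k (α → k) (d i)) * g ^ p ^ i := by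
    funext a
    simp [hd, Finset.sum_apply]
  rw [this]
  exact sum_mem fun i _ => mul_mem ((Rg c).algebraMap_mem _) (pow_mem hg _)

theorem reg_last : (fun v : TruncatedWittVector p (n + 1) k => last v) ∈ Rg (c1 p k (n + 1)) :=
  rg_coord (c1 p k (n + 1)) ⟨n, Nat.lt_succ_self n⟩

theorem isRegMap_emb {α : Type*} {ι : Type*} {c : ι → α → k} {g : α → k} (hg : g ∈ Rg c) :
    IsRegMap (p := p) (n := n + 1) c fun a => emb n (g a) := fun i => by
  simp only [coeff_emb]
  split_ifs
  · exact hg
  · exact rg_const c 0

theorem reg_Cn (n : ℕ) :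
    (fun ab : TruncatedWittVector p n k × TruncatedWittVector p n k => Cn n ab.1 ab.2) ∈ Rg (c2 p k n) :=
  ((isRegMap_fst.pad _).add (isRegMap_snd.pad _)) _

theorem isCoc_Cn (n : ℕ) : IsCoc p k n (Cn n) where
  reg := reg_Cn n
  symm a b := by rw [Cn, Cn, add_comm]
  coc a b c := by
    have h1 := congrArg last (show (pad (Nat.le_add_right n 1) a + pad (Nat.le_add_right n 1) b) +
        pad (Nat.le_add_right n 1) c = (pad (Nat.le_add_right n 1) b + pad (Nat.le_add_right n 1) c) +
        pad (Nat.le_add_right n 1) a by abel)
    rw [pad_add_pad, pad_add_pad, add_right_comm, last_add_emb, add_right_comm _ _ (pad _ a), last_add_emb] at h1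
    rw [show Cn n a (b + c) = Cn n (b + c) a by rw [Cn, Cn, add_comm]]
    simp only [Cn] at h1 ⊢
    linear_combination h1

theorem add_cob {A : Type*} [AddCommGroup A] (h g : A → k) (a b : A) :
    cob (fun v => h v + g v) a b = cob h a b + cob g a b := by simp only [cob]; ring

theorem IsCoc.combine {f : TruncatedWittVector p n k → TruncatedWittVector p n k → k} (hf : IsCoc p k n f)
    {φ : k →+ k} (hφ : IsAddPoly (p := p) φ) {h : TruncatedWittVector p n k → k} (hh : h ∈ Rg (c1 p k n)) :
    IsCoc p k n fun a b => f a b - φ (Cn n a b) - cob h a b where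
  reg := rg_sub (rg_sub hf.reg (hφ.reg (reg_Cn n)))
    (rg_sub (rg_sub ((isRegMap_fst.add isRegMap_snd).comp hh) (isRegMap_fst.comp hh)) (isRegMap_snd.comp hh))
  symm a b := by rw [hf.symm, (isCoc_Cn n).symm]; simp only [cob]; rw [add_comm a b]; ring
  coc a b c := by
    have h1 := hf.coc a b c
    have h2 := congrArg φ ((isCoc_Cn (p := p) (k := k) n).coc a b c)
    rw [map_add, map_add] at h2
    simp only [cob, add_assoc a b c]
    linear_combination h1 - h2

theorem eq_of_coeff_zero {x y : TruncatedWittVector p 1 k} (h : x.coeff 0 = y.coeff 0) : x = y :=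
  TruncatedWittVector.ext fun i => by rw [Subsingleton.elim i 0, h]

/-- The first Witt cocycle is the reduced binomial expression. -/
theorem Cn_one (a b : TruncatedWittVector p 1 k) :
    Cn 1 a b = -MvPolynomial.eval ![a.coeff 0, b.coeff 0] (Sp p k) := by
  let A : Type := MvPolynomial (Fin 2) ℤ
  let x : WittVector p A := WittVector.mk p fun j => if j = 0 then MvPolynomial.X 0 else 0
  let y : WittVector p A := WittVector.mk p fun j => if j = 0 then MvPolynomial.X 1 else 0
  have hxy : (x + y).coeff 1 = -Sp p ℤ := by
    have h := map_add (WittVector.ghostComponent (p := p) (R := A) 1) x y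
    rw [WittVector.ghostComponent_apply, WittVector.ghostComponent_apply, WittVector.ghostComponent_apply] at h
    simp only [wittPolynomial_one, map_add, map_mul, map_pow,
      MvPolynomial.aeval_C, MvPolynomial.aeval_X, map_natCast, WittVector.add_coeff_zero, x, y, WittVector.coeff_mk,
      if_true, one_ne_zero, if_false, mul_zero, zero_add, add_zero] at h
    have hp : (p : A) ≠ 0 := Nat.cast_ne_zero.2 (Fact.out : p.Prime).ne_zero
    refine mul_left_cancel₀ hp ?_
    linear_combination h + natCast_mul_Sp (R := ℤ) p
  let g : A →+* k := MvPolynomial.eval₂Hom (Int.castRingHom k) ![a.coeff 0, b.coeff 0]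
  have hg : ∀ (v : TruncatedWittVector p 1 k) (z : WittVector p A) (s : Fin 2),
      z = WittVector.mk p (fun j => if j = 0 then MvPolynomial.X s else 0) → g (MvPolynomial.X s) = v.coeff 0 →
      pad (Nat.le_add_right 1 1) v = WittVector.truncate (1 + 1) (WittVector.map g z) := by
    intro v z s hz hs
    subst hz
    refine TruncatedWittVector.ext fun i => ?_
    rw [coeff_pad, WittVector.coeff_truncate, WittVector.map_coeff, WittVector.coeff_mk]
    by_cases hi : (i : ℕ) = 0
    · rw [dif_pos (by omega), if_pos hi, hs]
      congr 1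
      exact Fin.ext hi
    · rw [dif_neg (by omega), if_neg hi, map_zero]
  rw [Cn, hg a x 0 rfl (MvPolynomial.eval₂Hom_X' _ _ _), hg b y 1 rfl (MvPolynomial.eval₂Hom_X' _ _ _), ← map_add, ← map_add, last,
    WittVector.coeff_truncate, WittVector.map_coeff, hxy, map_neg, ← map_Sp (Int.castRingHom k) p,
    MvPolynomial.eval_map]
  rfl

variable [IsAlgClosed k]

/-- The classification for vectors of length one. -/
theorem classify_one {f : TruncatedWittVector p 1 k → TruncatedWittVector p 1 k → k} (hf : IsCoc p k 1 f) :
    ∃ φ : k →+ k, IsAddPoly (p := p) φ ∧ ∃ h ∈ Rg (c1 p k 1), ∀ a b, f a b = φ (Cn 1 a b) + cob h a b := by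
  let v : k → TruncatedWittVector p 1 k := fun t => TruncatedWittVector.mk p fun _ => t
  have hv : ∀ s t, v (s + t) = v s + v t := fun s t => eq_of_coeff_zero (by rw [coeff_zero_add]; simp [v])
  obtain ⟨P, hP⟩ := rg_exists_poly hf.reg
  let F : MvPolynomial (Fin 2) k := MvPolynomial.rename (Sum.elim (fun _ => 0) (fun _ => 1)) P
  have hF : ∀ x y, MvPolynomial.eval ![x, y] F = f (v x) (v y) := fun x y => by
    rw [hP (v x, v y), MvPolynomial.eval_rename]
    refine congrArg (fun e => MvPolynomial.eval e P) (funext fun i => ?_)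
    rcases i with i | i <;> simp [c2, v]
  have hev : ∀ (G : MvPolynomial (Fin 2) k) (w : Fin 3 → k) (u : Fin 2 → MvPolynomial (Fin 3) k),
      MvPolynomial.eval w (MvPolynomial.aeval u G) =
        MvPolynomial.eval (fun i => MvPolynomial.eval w (u i)) G := fun G w u => by
    induction G using MvPolynomial.induction_on with
    | C r => simp
    | add P Q hP hQ => simp only [map_add, hP, hQ]
    | mul_X P i hP => simp only [map_mul, MvPolynomial.aeval_X, MvPolynomial.eval_X, hP]
  have hnf : NF p F := by
    refine (symmetricCocycle_iff p F).1 ⟨?_, ?_⟩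
    · refine MvPolynomial.funext fun w => ?_
      have e : w = ![w 0, w 1] := funext fun i => by fin_cases i <;> rfl
      have e2 : MvPolynomial.eval w (swp F) = MvPolynomial.eval ![w 1, w 0] F := by
        rw [swp]
        induction F using MvPolynomial.induction_on with
        | C r => simp
        | add P Q hP hQ => simp only [map_add, hP, hQ]
        | mul_X P i hP =>
          fin_cases i <;> simp only [map_mul, hP, MvPolynomial.aeval_X, MvPolynomial.eval_X, Fin.zero_eta, Fin.mk_one,
            Matrix.cons_val_zero, Matrix.cons_val_one]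
      rw [e2]
      conv_rhs => rw [e]
      rw [hF, hF, hf.symm]
    · refine MvPolynomial.funext fun w => ?_
      simp only [q1, q2, p12, p23, map_sub, map_add, hev, map_zero]
      have e : ∀ (u : Fin 2 → MvPolynomial (Fin 3) k), (fun i => MvPolynomial.eval w (u i)) =
          ![MvPolynomial.eval w (u 0), MvPolynomial.eval w (u 1)] := fun u => funext fun i => by fin_cases i <;> rfl
      rw [e, e, e, e, hF, hF, hF, hF]
      simp only [Matrix.cons_val_zero, Matrix.cons_val_one, MvPolynomial.eval_X, map_add, hv]
      linear_combination -hf.coc (v (w 0)) (v (w 1)) (v (w 2))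
  obtain ⟨G, N, r, hG⟩ := hnf
  refine ⟨addP (p := p) N (fun i => -r i), isAddPoly_addP N _, fun a => G.eval (a.coeff 0), ?_, fun a b => ?_⟩
  · have : (fun a : TruncatedWittVector p 1 k => G.eval (a.coeff 0)) =
        Polynomial.aeval (c1 p k 1 0) G := by
      funext a
      rw [Polynomial.aeval_fn_apply]
      simp [c1]
    rw [this]
    exact Algebra.adjoin_mono (Set.singleton_subset_iff.2 (Set.mem_range_self (0 : Fin 1))) (Polynomial.aeval_mem_adjoin_singleton k _)
  · have hab : ∀ a : TruncatedWittVector p 1 k, v (a.coeff 0) = a := fun a => eq_of_coeff_zero (by simp [v])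
    rw [← hab a, ← hab b, ← hF, hG]
    simp only [map_add, map_sub, map_sum, map_mul, MvPolynomial.eval_C]
    show _ = (∑ i ∈ Finset.range N, -r i * Cn 1 (v (a.coeff 0)) (v (b.coeff 0)) ^ p ^ i) + _
    rw [hab, hab, Cn_one, cob, coeff_zero_add, add_comm]
    congr 1
    · refine Finset.sum_congr rfl fun i _ => ?_
      have : MvPolynomial.eval ![a.coeff 0, b.coeff 0] (ψ p i (Sp p k)) =
          MvPolynomial.eval ![a.coeff 0, b.coeff 0] (Sp p k) ^ p ^ i := by
        simp only [Sp, map_sum, ψ, map_mul, map_pow, MvPolynomial.aeval_X, MvPolynomial.aeval_C,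
          MvPolynomial.algebraMap_eq, Matrix.cons_val_zero, Matrix.cons_val_one, MvPolynomial.eval_X,
          MvPolynomial.eval_C, sum_pow_char_pow, mul_pow, ← pow_mul]
        refine Finset.sum_congr rfl fun j _ => ?_
        rw [mul_comm j, mul_comm (p - j)]
        congr 2
        rw [← map_natCast (ZMod.castHom dvd_rfl k), ← map_pow, ZMod.pow_card_pow]
      rw [this, neg_mul_comm,
        show (-MvPolynomial.eval ![a.coeff 0, b.coeff 0] (Sp p k)) ^ p ^ i =
          -(MvPolynomial.eval ![a.coeff 0, b.coeff 0] (Sp p k) ^ p ^ i) by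
          simpa [iterateFrobenius_def] using map_neg (iterateFrobenius k p i) _, neg_neg]
    · have hev2 : ∀ (G' : Polynomial k) (w : Fin 2 → k) (Q : MvPolynomial (Fin 2) k),
          MvPolynomial.eval w (Polynomial.aeval Q G') = G'.eval (MvPolynomial.eval w Q) := fun G' w Q => by
        induction G' using Polynomial.induction_on' with
        | add P R hP hR => simp only [map_add, Polynomial.eval_add, hP, hR]
        | monomial d r => simp [Polynomial.aeval_monomial]
      rw [hev2, hev2, hev2]
      simp

/-- Regular symmetric cocycles are multiples of the Witt cocycle, up to coboundaries. -/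
theorem classify : ∀ (n : ℕ) {f : TruncatedWittVector p n k → TruncatedWittVector p n k → k}, IsCoc p k n f →
    ∃ φ : k →+ k, IsAddPoly (p := p) φ ∧ ∃ h ∈ Rg (c1 p k n), ∀ a b, f a b = φ (Cn n a b) + cob h a b := by
  intro n
  induction n with
  | zero =>
    intro f hf
    refine ⟨0, ⟨0, fun _ => 0, fun t => by simp⟩, fun _ => -f 0 0, rg_const _ _, fun a b => ?_⟩
    rw [show a = 0 from TruncatedWittVector.ext fun i => i.elim0,
      show b = 0 from TruncatedWittVector.ext fun i => i.elim0]
    simp [cob]
  | succ n ih =>
    intro f hf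
    rcases Nat.eq_zero_or_pos n with rfl | hn
    · exact classify_one hf
    let E1 : TruncatedWittVector p 1 k → TruncatedWittVector p (n + 1) k := fun v => emb n (v.coeff 0)
    have hE1 : ∀ v w, E1 (v + w) = E1 v + E1 w := fun v w => by simp only [E1, coeff_zero_add, map_add]
    have hE1r : IsRegMap (c2 p k 1) (fun ab => E1 ab.1) ∧ IsRegMap (c2 p k 1) (fun ab => E1 ab.2) :=
      ⟨isRegMap_emb (isRegMap_fst 0), isRegMap_emb (isRegMap_snd 0)⟩
    obtain ⟨φ, hφ, h₀, hh₀, h₁⟩ := classify_one (f := fun a b => f (E1 a) (E1 b))
      { reg := IsRegMap.comp₂ hf.reg hE1r.1 hE1r.2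
        symm := fun a b => hf.symm _ _
        coc := fun a b c => by simp only [hE1]; exact hf.coc _ _ _ }
    let L : TruncatedWittVector p (n + 1) k → TruncatedWittVector p 1 k := fun v =>
      TruncatedWittVector.mk p fun _ => last v
    have hL : IsRegMap (c1 p k (n + 1)) L := fun i => by
      simp only [L, TruncatedWittVector.coeff_mk]; exact reg_last
    -- on the last component the Witt cocycle restricts to the first one
    have hC : ∀ a b, Cn (n + 1) (E1 a) (E1 b) = Cn 1 a b := fun a b => by
      have hs : ∀ v : TruncatedWittVector p 1 k, pad (Nat.le_add_right (n + 1) 1) (E1 v) =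
          shift p (show 1 + 1 ≤ n + 1 + 1 by omega) (pad (Nat.le_add_right 1 1) v) := fun v =>
        TruncatedWittVector.ext fun i => by
          simp only [E1, coeff_pad, coeff_emb, coeff_shift]
          have := i.isLt
          split_ifs <;> first | rfl | (exfalso; omega) | (congr 1; exact Fin.ext (by simp only [Fin.val_zero]; omega))
      rw [Cn, hs, hs, ← map_add, last, coeff_shift, dif_pos (by dsimp only; omega), Cn, last]
      congr 1
      exact Fin.ext (by dsimp only; omega)
    let g : TruncatedWittVector p (n + 1) k → k := fun v => h₀ (L v)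
    have hg : g ∈ Rg (c1 p k (n + 1)) := hL.comp hh₀
    let f₁ := fun a b => f a b - φ (Cn (n + 1) a b) - cob g a b
    have hf1 : IsCoc p k (n + 1) f₁ := hf.combine hφ hg
    have hLE : ∀ a, L (E1 a) = a := fun a => eq_of_coeff_zero (by simp [L, E1, last_emb])
    have hKK : ∀ c d, f₁ (emb n c) (emb n d) = 0 := fun c d => by
      have h := h₁ (TruncatedWittVector.mk p fun _ => c) (TruncatedWittVector.mk p fun _ => d)
      have e : ∀ t, E1 (TruncatedWittVector.mk p fun _ => t) = emb n t := fun t => by simp [E1]
      show f (emb n c) (emb n d) - _ - cob g _ _ = 0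
      rw [← e c, ← e d, h, hC, cob, cob]
      simp only [g, ← hE1, hLE]
      ring
    let R' := fun a : TruncatedWittVector p (n + 1) k => TruncatedWittVector.truncate (Nat.le_add_right n 1) a
    let s := fun a : TruncatedWittVector p n k => pad (Nat.le_add_right n 1) a
    let h₂ : TruncatedWittVector p (n + 1) k → k := fun a => f₁ (s (R' a)) (emb n (last a))
    have hs' : IsRegMap (c1 p k (n + 1)) fun a => s (R' a) := (isRegMap_id.truncate _).pad _
    have hh₂ : h₂ ∈ Rg (c1 p k (n + 1)) := IsRegMap.comp₂ hf1.reg hs' (isRegMap_emb reg_last)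
    let f₂ := fun a b => f₁ a b + cob h₂ a b * (-1)
    have h00 : f₁ 0 0 = 0 := by simpa using hKK 0 0
    have h0 : ∀ x, f₁ x 0 = 0 := fun x => by
      have := hf1.coc x 0 0
      simp only [add_zero, h00] at this
      linear_combination this
    have hs0 : s 0 = 0 := pad_zero _
    have hw : ∀ w c, f₂ (s w) (emb n c) = 0 := fun w c => by
      have e1 : R' (s w + emb n c) = w := by simp only [R', s, map_add, truncate_emb, add_zero, truncate_pad]
      have e2 : last (s w) = 0 := by simp only [s, last, coeff_pad, lt_irrefl, dite_false]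
      have e3 : last (s w + emb n c) = c := by rw [last_add_emb, e2, zero_add]
      have e4 : R' (s w) = w := truncate_pad _ w
      have e5 : R' (emb n c) = 0 := truncate_emb c
      simp only [f₂, h₂, cob, e1, e2, e3, e4, e5, hs0, map_zero, last_emb]
      rw [h0, hf1.symm 0, h0]
      ring
    have hf2 : IsCoc p k (n + 1) f₂ := by
      have := hf1.combine (isAddPoly_addP (p := p) 0 0) hh₂
      simp only [addP, AddMonoidHom.mk'_apply, Finset.range_zero, Finset.sum_empty, sub_zero] at this
      simpa [f₂, sub_eq_add_neg] using this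
    have hKK2 : ∀ c d, f₂ (emb n c) (emb n d) = 0 := fun c d => by
      have e5 : ∀ c, R' (emb n c) = 0 := fun c => truncate_emb c
      simp only [f₂, h₂, cob, ← map_add, e5, hs0, hKK, last_emb]
      rw [hf1.symm, h0, hf1.symm, h0, hf1.symm, h0]
      ring
    have hinv : ∀ a c, f₂ a (emb n c) = 0 := fun a c => by
      have h := hf2.coc (s (R' a)) (emb n (last a)) (emb n c)
      rw [eq_pad_add_emb, hw, hKK2, ← map_add, hw] at h
      simpa using h
    have hadd : ∀ a b c, f₂ (a + emb n c) b = f₂ a b := fun a b c => by
      have h := hf2.coc (emb n c) a b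
      rw [hf2.symm (emb n c) a, hinv, hf2.symm (emb n c) (a + b), hinv, add_comm (emb n c) a] at h
      simpa using h
    obtain ⟨φ', hφ', h', hh', hf'⟩ := ih (f := fun a b => f₂ (s a) (s b))
      { reg := IsRegMap.comp₂ hf2.reg (isRegMap_fst.pad (Nat.le_add_right n 1))
          (isRegMap_snd.pad (Nat.le_add_right n 1))
        symm := fun a b => hf2.symm _ _
        coc := fun a b c => by
          have h := hf2.coc (s a) (s b) (s c)
          simp only [s, pad_add_pad] at h
          rw [hadd, hf2.symm _ (pad (Nat.le_add_right n 1) (b + c) + emb n (Cn n b c)), hadd,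
            hf2.symm (pad (Nat.le_add_right n 1) (b + c))] at h
          exact h }
    refine ⟨φ, hφ, fun a => g a + h₂ a + (h' (R' a) + φ' (last a)), rg_add (rg_add hg hh₂)
      (rg_add ((isRegMap_id.truncate _).comp hh') (hφ'.reg reg_last)), fun a b => ?_⟩
    have e : f₂ a b = f₂ (s (R' a)) (s (R' b)) := by
      conv_lhs => rw [← eq_pad_add_emb a, ← eq_pad_add_emb b]
      rw [hadd, hf2.symm, hadd, hf2.symm]
    have hfin := e.trans (hf' (R' a) (R' b))
    rw [← cob_last, cob, map_sub, map_sub] at hfin
    simp only [add_cob, f₂, f₁, cob, R', map_add] at hfin ⊢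
    linear_combination hfin

end WittExtLib
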