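import Groth.Agent.WittExtLib.Sect
import Groth.Agent.WittExtLib.Cocycle
import Groth.Agent.WittGrpLib.Homs
import Mathlib.AlgebraicGeometry.Morphisms.FlatDescent

/-!
Extensions of Witt groups, described on rational points by regular cocycles.
-/

set_option autoImplicit false
set_option linter.style.haveILetI false
set_option backward.isDefEq.respectTransparency false
set_option maxHeartbeats 1000000

noncomputable section

universe u

open CategoryTheory CategoryTheory.Limits MonoidalCategory CartesianMonoidalCategory MonObj AlgebraicGeometry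
open WittGrp WittGrpLib
open Groth.Agent

namespace WittExtLib

variable {p : ℕ} [Fact p.Prime] {k : Type u} [Field k] {n m : ℕ}

local notation "SK" => Spec (CommRingCat.of k)

/-- A morphism between Witt groups is regular on rational points. -/
theorem exists_regMap_of_hom (F : W p n SK ⟶ W p m SK) :
    ∃ φ : TruncatedWittVector p n k → TruncatedWittVector p m k,
      IsRegMap (c1 p k n) φ ∧ ∀ x, ev (x ≫ F) = φ (ev x) := by
  refine ⟨fun v => ev (evEquiv.symm v ≫ F), fun i => ?_, fun x => by simp only [evEquiv_symm_ev]⟩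
  let pr : W p m SK ⟶ W p 1 SK := polyHom fun _ => MvPolynomial.X i
  obtain ⟨P, hP⟩ := exists_poly (F ≫ pr)
  have : (fun v => (ev (evEquiv.symm v ≫ F)).coeff i) = fun v => MvPolynomial.eval (fun j => c1 p k n j v) P := by
    funext v
    have h := hP (evEquiv.symm v)
    rw [ev_evEquiv_symm, ← Category.assoc, coeff_ev_polyHom, MvPolynomial.eval_X] at h
    exact h
  rw [this]
  exact rg_of_poly _ P

theorem isPullback_whiskerRight {S : Scheme.{u}} {X Y : Over S} (f : X ⟶ Y) (Z : Over S) :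
    IsPullback (f ▷ Z).left (fst X Z).left (fst Y Z).left f.left := by
  refine IsPullback.of_right (h₁₂ := (snd Y Z).left) (v₁₃ := Z.hom) (h₂₂ := Y.hom) ?_
    (congrArg Over.Hom.left (whiskerRight_fst f Z)) (IsPullback.of_hasPullback Y.hom Z.hom).flip
  rw [← Over.comp_left, whiskerRight_snd, Over.w f]
  exact (IsPullback.of_hasPullback X.hom Z.hom).flip

/-- The retraction of the shift on rational points. -/
theorem coeff_ev_retr (h : n ≤ m) (x : 𝟙_ (Over SK) ⟶ W p m SK) (j : Fin n) :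
    (ev (x ≫ retr p SK h)).coeff j = (ev x).coeff ⟨(j : ℕ) + (m - n), by omega⟩ := by
  rw [ev, ev, retr, pts_comp, pts_mkPt, coeff_truncMap, coeff_truncMap, coeff_truncMap,
    TruncatedWittVector.coeff_mk, coeff_pts]

/-- A morphism from a square of a Witt group is regular on rational points. -/
theorem exists_regMap_of_hom₂ (F : W p n SK ⊗ W p n SK ⟶ W p m SK) :
    ∃ φ : TruncatedWittVector p n k × TruncatedWittVector p n k → TruncatedWittVector p m k,
      IsRegMap (c2 p k n) φ ∧ ∀ x y, ev (lift x y ≫ F) = φ (ev x, ev y) := by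
  obtain ⟨e, h1, h2⟩ := exists_iso_prod (p := p) (S := SK) (n := n) (l := n) (m := n + n)
    (Nat.le_add_right n n) (Nat.le_add_right n n) rfl
  obtain ⟨φ, hφ, hφx⟩ := exists_regMap_of_hom (e.hom ≫ F)
  let cat : TruncatedWittVector p n k × TruncatedWittVector p n k → TruncatedWittVector p (n + n) k := fun ab =>
    TruncatedWittVector.mk p fun i : Fin (n + n) =>
      if hi : (i : ℕ) < n then ab.1.coeff ⟨i, hi⟩ else ab.2.coeff ⟨(i : ℕ) - n, by omega⟩
  have hcat : IsRegMap (c2 p k n) cat := fun i => by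
    simp only [cat, TruncatedWittVector.coeff_mk]
    split_ifs
    · exact rg_coord (c2 p k n) (Sum.inl _)
    · exact rg_coord (c2 p k n) (Sum.inr _)
  refine ⟨fun ab => φ (cat ab), fun i => hcat.comp (hφ i), fun x y => ?_⟩
  have hu : ev (lift x y ≫ e.inv) = cat (ev x, ev y) := by
    have hR : TruncatedWittVector.truncate (Nat.le_add_right n n) (ev (lift x y ≫ e.inv)) = ev x := by
      rw [← ev_R, ← h1, Category.assoc, e.inv_hom_id_assoc, lift_fst]
    have hS : ev (lift x y ≫ e.inv ≫ retr p SK (Nat.le_add_right n n)) = ev y := by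
      rw [← h2, e.inv_hom_id_assoc, lift_snd]
    refine TruncatedWittVector.ext fun i => ?_
    simp only [cat, TruncatedWittVector.coeff_mk]
    split_ifs with hi
    · rw [← hR, TruncatedWittVector.coeff_truncate]
      congr 1
    · rw [← hS, ← Category.assoc, coeff_ev_retr]
      congr 1
      exact Fin.ext (by dsimp only; omega)
  show _ = φ (cat _)
  rw [← hu, ← hφx, Category.assoc, e.inv_hom_id_assoc]

/-- A regular map is given by a morphism. -/
theorem exists_hom_of_regMap {φ : TruncatedWittVector p n k → TruncatedWittVector p m k}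
    (hφ : IsRegMap (c1 p k n) φ) : ∃ F : W p n SK ⟶ W p m SK, ∀ x, ev (x ≫ F) = φ (ev x) := by
  choose P hP using fun i => rg_exists_poly (hφ i)
  refine ⟨polyHom P, fun x => TruncatedWittVector.ext fun i => ?_⟩
  rw [coeff_ev_polyHom, hP i (ev x)]
  rfl

theorem isMonHom_of_points [IsAlgClosed k] {E : Over SK} [GrpObj E] [LocallyOfFiniteType E.hom] [IsSeparated E.hom]
    {A : Over SK} [GrpObj A] [Smooth A.hom] (f : A ⟶ E)
    (h : ∀ x y : 𝟙_ (Over SK) ⟶ A, (x * y) ≫ f = (x ≫ f) * (y ≫ f)) : IsMonHom f where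
  one_hom := by
    have h1 := h 1 1
    rw [_root_.one_mul, left_eq_mul] at h1
    have e1 : ∀ X : Over SK, ∀ [GrpObj X], (1 : 𝟙_ (Over SK) ⟶ X) = η[X] := fun X _ => by
      rw [Hom.one_def, toUnit_unique (toUnit _) (𝟙 _), Category.id_comp]
    rwa [e1, e1] at h1
  mul_hom := by
    haveI : Smooth (fst A A).left := MorphismProperty.pullback_fst _ _ inferInstance
    haveI : Smooth (A ⊗ A).hom := by rw [← Over.w (fst A A)]; infer_instance
    haveI : IsReduced (A ⊗ A).left := AlgSpLib.isReduced_of_smooth (A ⊗ A).hom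
    refine AVAmpleLib.hom_ext_of_points _ _ fun a => ?_
    rw [← lift_comp_fst_snd a, lift_map_assoc, ← Hom.mul_def, ← Category.assoc, ← Hom.mul_def, h]

/-- An additive regular map is given by a homomorphism. -/
theorem exists_monHom_of_regMap [IsAlgClosed k] (φ : TruncatedWittVector p n k →+ TruncatedWittVector p m k)
    (hφ : IsRegMap (c1 p k n) φ) : ∃ F : W p n SK ⟶ W p m SK, IsMonHom F ∧ ∀ x, ev (x ≫ F) = φ (ev x) := by
  obtain ⟨F, hF⟩ := exists_hom_of_regMap hφ
  exact ⟨F, isMonHom_of_ev F φ hF, hF⟩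

/-- The point data of an extension of Witt groups. -/
structure ExtData (n m : ℕ) (E : Over SK) [GrpObj E] (i : W p m SK ⟶ E) (π : E ⟶ W p n SK) where
  /-- the section -/
  σ : W p n SK ⟶ E
  /-- the retraction -/
  ρ : E ⟶ W p m SK
  σ_π : σ ≫ π = 𝟙 _
  σ_ρ : σ ≫ ρ = 1
  decomp : ∀ a : 𝟙_ (Over SK) ⟶ E, a = (a ≫ π ≫ σ) * (a ≫ ρ ≫ i)
  equiv : ∀ (x : 𝟙_ (Over SK) ⟶ E) (t : 𝟙_ (Over SK) ⟶ W p m SK), (x * (t ≫ i)) ≫ ρ = (x ≫ ρ) * t

theorem exists_extData (E : Over SK) [GrpObj E] [IsCommMonObj E] [QuasiCompact E.hom] (i : W p m SK ⟶ E) [IsMonHom i]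
    (π : E ⟶ W p n SK) [IsMonHom π] [Surjective π.left] [Flat π.left] (hker : AlgGrp.IsKernel i π) :
    Nonempty (ExtData n m E i π) := by
  haveI : IsAffine (W p n SK).left := isAffine_W
  haveI : QuasiCompact π.left := by
    haveI : QuasiCompact (π.left ≫ (W p n SK).hom) := by rw [Over.w]; infer_instance
    exact QuasiCompact.of_comp π.left (W p n SK).hom
  haveI : IsAffine E.left := isAffine_of_extension i π hker
  obtain ⟨ρ, hρ⟩ := exists_retraction i π hker
  have hkill : ∀ {X : Over SK} (x : X ⟶ E) (t : X ⟶ W p m SK), (x * (t ≫ i)) ≫ π = x ≫ π := fun {X} x t => by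
    rw [MonObj.mul_comp, Category.assoc, hker.w, ← Category.assoc, toUnit_unique (t ≫ toUnit _) (toUnit _),
      ← Hom.one_def, _root_.mul_one]
  let Φ : E ⟶ W p n SK ⊗ W p m SK := lift π ρ
  let a : E ⊗ W p m SK ⟶ E := fst _ _ * (snd _ _ ≫ i)
  let Ψ : E ⊗ W p m SK ⟶ E ⊗ W p m SK := lift (fst _ _) ((fst _ _ ≫ ρ) * snd _ _)
  let Ψi : E ⊗ W p m SK ⟶ E ⊗ W p m SK := lift (fst _ _) ((fst _ _ ≫ ρ)⁻¹ * snd _ _)
  have hΨ : IsIso Ψ := by
    refine ⟨Ψi, ?_, ?_⟩
    · refine CartesianMonoidalCategory.hom_ext _ _ ?_ ?_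
      · simp [Ψ, Ψi]
      · rw [Category.assoc, lift_snd, MonObj.comp_mul, GrpObj.comp_inv, ← Category.assoc Ψ, lift_fst, lift_snd,
          inv_mul_cancel_left, Category.id_comp]
    · refine CartesianMonoidalCategory.hom_ext _ _ ?_ ?_
      · simp [Ψ, Ψi]
      · rw [Category.assoc, lift_snd, MonObj.comp_mul, ← Category.assoc Ψi, lift_fst, lift_snd,
          mul_inv_cancel_left, Category.id_comp]
  have hsq : IsPullback a Ψ Φ (π ▷ W p m SK) := by
    have hw : a ≫ Φ = Ψ ≫ π ▷ W p m SK := by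
      refine CartesianMonoidalCategory.hom_ext _ _ ?_ ?_
      · simp only [Φ, Category.assoc, lift_fst, whiskerRight_fst]
        rw [hkill, lift_fst_assoc]
      · simp only [Φ, Category.assoc, lift_snd, whiskerRight_snd]
        rw [hρ]
        simp [Ψ]
    have hl : ∀ s : PullbackCone Φ (π ▷ W p m SK), ∃ l : s.pt ⟶ E ⊗ W p m SK,
        l ≫ a = s.fst ∧ l ≫ Ψ = s.snd := fun s => by
      have h1 := congrArg (· ≫ fst _ _) s.condition
      have h2 := congrArg (· ≫ snd _ _) s.condition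
      simp only [Φ, Category.assoc, lift_fst, lift_snd, whiskerRight_fst, whiskerRight_snd] at h1 h2
      let d : s.pt ⟶ W p m SK := hker.lift ((s.snd ≫ fst _ _)⁻¹ * s.fst) (toUnit _) (by
        rw [MonObj.mul_comp, GrpObj.inv_comp, Category.assoc, h1, inv_mul_cancel, Hom.one_def])
      have hd : d ≫ i = (s.snd ≫ fst _ _)⁻¹ * s.fst := hker.lift_fst _ _ _
      have hx : (s.snd ≫ fst _ _) * (d ≫ i) = s.fst := by rw [hd, mul_inv_cancel_left]
      refine ⟨lift (s.snd ≫ fst _ _) d, ?_, ?_⟩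
      · simp only [a, MonObj.comp_mul, lift_fst, lift_snd_assoc, hx]
      · refine CartesianMonoidalCategory.hom_ext _ _ ?_ ?_
        · simp [Ψ]
        · simp only [Ψ, Category.assoc, lift_snd, MonObj.comp_mul, lift_fst_assoc]
          rw [← Category.assoc, ← hρ, hx, h2]
    refine ⟨⟨hw⟩, ⟨PullbackCone.IsLimit.mk _ (fun s => (hl s).choose) (fun s => (hl s).choose_spec.1)
      (fun s => (hl s).choose_spec.2) fun s l hla hlb => ?_⟩⟩
    exact (cancel_mono Ψ).1 (hlb.trans (hl s).choose_spec.2.symm)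
  haveI : IsIso Φ.left := by
    haveI : IsIso Ψ.left := (Over.forget SK).map_isIso Ψ
    haveI : Surjective (π ▷ W p m SK).left := MorphismProperty.of_isPullback (P := @Surjective)
      ((isPullback_whiskerRight π (W p m SK)).flip) ‹_›
    haveI : Flat (π ▷ W p m SK).left := MorphismProperty.of_isPullback (P := @Flat)
      ((isPullback_whiskerRight π (W p m SK)).flip) ‹_›
    haveI : QuasiCompact (π ▷ W p m SK).left := MorphismProperty.of_isPullback (P := @QuasiCompact)
      ((isPullback_whiskerRight π (W p m SK)).flip) ‹_›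
    exact MorphismProperty.of_isPullback_of_descendsAlong (P := MorphismProperty.isomorphisms Scheme)
      (Q := @Surjective ⊓ @Flat ⊓ @QuasiCompact) (hsq.map (Over.forget SK)).flip
      ⟨⟨‹_›, ‹_›⟩, ‹_›⟩ (show MorphismProperty.isomorphisms Scheme Ψ.left from ‹_›)
  haveI : IsIso Φ := (isIso_iff_of_reflects_iso Φ (Over.forget SK)).1 ‹_›
  let σ : W p n SK ⟶ E := lift (𝟙 _) 1 ≫ inv Φ
  have hσ : σ ≫ Φ = lift (𝟙 _) 1 := by simp [σ]
  have h1 : σ ≫ π = 𝟙 _ := by
    have := congrArg (· ≫ fst _ _) hσ; simpa [Φ] using this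
  have h2 : σ ≫ ρ = 1 := by
    have := congrArg (· ≫ snd _ _) hσ; simpa [Φ] using this
  refine ⟨⟨σ, ρ, h1, h2, fun x => ?_, fun x t => hρ _ x t⟩⟩
  refine (cancel_mono Φ).1 (CartesianMonoidalCategory.hom_ext _ _ ?_ ?_)
  · simp only [Φ, Category.assoc, lift_fst]
    rw [← Category.assoc x ρ i, hkill, Category.assoc, Category.assoc, h1, Category.comp_id]
  · simp only [Φ, Category.assoc, lift_snd]
    rw [← Category.assoc x ρ i, hρ, Category.assoc, Category.assoc, h2, MonObj.comp_one, MonObj.comp_one,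
      _root_.one_mul]

namespace ExtData

variable {E : Over (Spec (CommRingCat.of k))} [GrpObj E] [IsCommMonObj E]
  {i : W p m (Spec (CommRingCat.of k)) ⟶ E} [IsMonHom i] {π : E ⟶ W p n (Spec (CommRingCat.of k))} [IsMonHom π]
  (D : ExtData n m E i π)

/-- The section on vectors. -/
def sec (v : TruncatedWittVector p n k) : 𝟙_ (Over SK) ⟶ E := evEquiv.symm v ≫ D.σ

/-- The inclusion on vectors. -/
def inc (_D : ExtData n m E i π) (w : TruncatedWittVector p m k) : 𝟙_ (Over SK) ⟶ E := evEquiv.symm w ≫ i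

/-- The cocycle. -/
def coc (a b : TruncatedWittVector p n k) : TruncatedWittVector p m k := ev ((D.sec a * D.sec b) ≫ D.ρ)

theorem inc_add (v w : TruncatedWittVector p m k) : D.inc (v + w) = D.inc v * D.inc w := by
  rw [inc, inc, inc, ← MonObj.mul_comp]
  congr 1
  refine evEquiv.symm_apply_eq.2 ?_
  rw [evEquiv_apply, ev_mul, ev_evEquiv_symm, ev_evEquiv_symm]

theorem inc_ev (t : 𝟙_ (Over SK) ⟶ W p m SK) : D.inc (ev t) = t ≫ i := by rw [inc, evEquiv_symm_ev]

theorem sec_π (v : TruncatedWittVector p n k) : ev (D.sec v ≫ π) = v := by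
  rw [sec, Category.assoc, D.σ_π, Category.comp_id, ev_evEquiv_symm]

theorem sec_ρ (v : TruncatedWittVector p n k) : ev (D.sec v ≫ D.ρ) = 0 := by
  rw [sec, Category.assoc, D.σ_ρ, MonObj.comp_one, ev_one]

theorem point_eq (a : 𝟙_ (Over SK) ⟶ E) : a = D.sec (ev (a ≫ π)) * D.inc (ev (a ≫ D.ρ)) := by
  conv_lhs => rw [D.decomp a]
  rw [sec, inc, evEquiv_symm_ev, evEquiv_symm_ev, Category.assoc, Category.assoc]

theorem ρ_mul_inc (x : 𝟙_ (Over SK) ⟶ E) (w : TruncatedWittVector p m k) :
    ev ((x * D.inc w) ≫ D.ρ) = ev (x ≫ D.ρ) + w := by rw [inc, D.equiv, ev_mul, ev_evEquiv_symm]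

theorem π_mul_inc (hker : AlgGrp.IsKernel i π) (x : 𝟙_ (Over SK) ⟶ E) (w : TruncatedWittVector p m k) :
    (x * D.inc w) ≫ π = x ≫ π := by
  rw [inc, MonObj.mul_comp, Category.assoc, hker.w, ← Category.assoc,
    toUnit_unique (evEquiv.symm w ≫ toUnit _) (toUnit _), ← Hom.one_def, _root_.mul_one]

theorem sec_mul (a b : TruncatedWittVector p n k) :
    D.sec a * D.sec b = D.sec (a + b) * D.inc (D.coc a b) := by
  have h := D.point_eq (D.sec a * D.sec b)
  rwa [MonObj.mul_comp, ev_mul, D.sec_π, D.sec_π] at h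

theorem regCoc : IsRegMap (c2 p k n) fun ab => D.coc ab.1 ab.2 := by
  obtain ⟨φ, hφ, hφx⟩ := exists_regMap_of_hom₂
    (((fst (W p n SK) (W p n SK) ≫ D.σ) * (snd (W p n SK) (W p n SK) ≫ D.σ)) ≫ D.ρ)
  have : (fun ab : TruncatedWittVector p n k × TruncatedWittVector p n k => D.coc ab.1 ab.2) = φ := by
    funext ab
    obtain ⟨a, b⟩ := ab
    obtain ⟨x, rfl⟩ := ev_surjective a
    obtain ⟨y, rfl⟩ := ev_surjective b
    rw [← hφx, ← Category.assoc, MonObj.comp_mul, lift_fst_assoc, lift_snd_assoc]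
    simp only [coc, sec, evEquiv_symm_ev]
  rw [this]; exact hφ

theorem coc_symm (a b : TruncatedWittVector p n k) : D.coc a b = D.coc b a := by rw [coc, coc, mul_comm]

theorem coc_coc (a b c : TruncatedWittVector p n k) :
    D.coc a b + D.coc (a + b) c = D.coc b c + D.coc a (b + c) := by
  have h : (D.sec a * D.sec b) * D.sec c = D.sec a * (D.sec b * D.sec c) := mul_assoc _ _ _
  rw [D.sec_mul a b, D.sec_mul b c, mul_right_comm, D.sec_mul (a + b) c, ← mul_assoc (D.sec a), D.sec_mul a (b + c)]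
    at h
  have h2 := congrArg (fun x => ev (x ≫ D.ρ)) h
  simp only [ρ_mul_inc, sec_ρ, zero_add] at h2
  rw [add_comm (D.coc a b), add_comm (D.coc b c)]
  exact h2

theorem mul_form (u v : TruncatedWittVector p n k) (s t : TruncatedWittVector p m k) :
    (D.sec u * D.inc s) * (D.sec v * D.inc t) = D.sec (u + v) * D.inc (D.coc u v + (s + t)) := by
  rw [_root_.mul_mul_mul_comm, D.sec_mul, D.inc_add, D.inc_add, _root_.mul_assoc]

theorem inc_injective (hker : AlgGrp.IsKernel i π) {s t : TruncatedWittVector p m k} (h : D.inc s = D.inc t) :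
    s = t := by
  have h1 : evEquiv.symm s = evEquiv.symm t := hker.hom_ext h (toUnit_unique _ _)
  simpa using congrArg evEquiv h1

theorem sec_mul_inc_π (hker : AlgGrp.IsKernel i π) (u : TruncatedWittVector p n k) (s : TruncatedWittVector p m k) :
    ev ((D.sec u * D.inc s) ≫ π) = u := by rw [D.π_mul_inc hker, D.sec_π]

theorem sec_mul_inc_ρ (u : TruncatedWittVector p n k) (s : TruncatedWittVector p m k) :
    ev ((D.sec u * D.inc s) ≫ D.ρ) = s := by rw [D.ρ_mul_inc, D.sec_ρ, zero_add]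

end ExtData

end WittExtLib
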