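import Groth.Agent.WittDescLib.Amitsur
import Groth.Agent.WittGrpLib.Basic

/-!
Amitsur cocycles with values in truncated Witt vectors are coboundaries.
-/

set_option autoImplicit false

noncomputable section

universe u

open WittGrp
open scoped TensorProduct

namespace WittExtLib

variable {p : ℕ} [Fact p.Prime]

/-- An additive cocycle is a coboundary. -/
theorem exists_coboundary_add (R S : Type u) [CommRing R] [CommRing S] [Algebra R S] [Module.FaithfullyFlat R S]
    (z : S ⊗[R] S)
    (hz : Groth.Agent.WittDescLib.g12 R S z + Groth.Agent.WittDescLib.g23 R S z = Groth.Agent.WittDescLib.g13 R S z) :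
    ∃ y : S, (Algebra.TensorProduct.includeRight : S →ₐ[R] S ⊗[R] S) y -
      (Algebra.TensorProduct.includeLeft : S →ₐ[R] S ⊗[R] S) y = z := by
  obtain ⟨w, hw⟩ := (Groth.Agent.WittDescLib.amitsur_exact R S R ((1 : R) ⊗ₜ[R] z)).1 (by
    rw [LinearMap.lTensor_tmul, Groth.Agent.WittDescLib.d1_apply, hz, sub_self, TensorProduct.tmul_zero])
  refine ⟨TensorProduct.lid R S w, ?_⟩
  have h := congrArg (TensorProduct.lid R (S ⊗[R] S)) hw
  rw [TensorProduct.lid_tmul, one_smul] at h
  rw [← h]
  obtain ⟨v, rfl⟩ : ∃ v, (1 : R) ⊗ₜ[R] v = w := ⟨TensorProduct.lid R S w, (TensorProduct.lid R S).symm_apply_apply w⟩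
  simp [Groth.Agent.WittDescLib.d0_apply]

/-- The inclusion of the last component. -/
def lastIncl {A : Type u} [CommRing A] (n : ℕ) : TruncatedWittVector p 1 A →+ TruncatedWittVector p (n + 1) A :=
  shift p (Nat.le_add_left 1 n)

theorem exists_lastIncl {A : Type u} [CommRing A] (n : ℕ) (x : TruncatedWittVector p (n + 1) A)
    (hx : TruncatedWittVector.truncate (Nat.le_add_right n 1) x = 0) :
    ∃ c : A, x = lastIncl n (TruncatedWittVector.mk p fun _ => c) := by
  refine ⟨x.coeff ⟨n, Nat.lt_succ_self n⟩, TruncatedWittVector.ext fun i => ?_⟩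
  rw [lastIncl, coeff_shift]
  split_ifs with hi
  · rw [TruncatedWittVector.coeff_mk]
    congr 1
    exact Fin.ext (by have := i.isLt; dsimp only; omega)
  · have := congrArg (fun v : TruncatedWittVector p n A => v.coeff ⟨(i : ℕ), by omega⟩) hx
    simp only [TruncatedWittVector.coeff_truncate, TruncatedWittVector.coeff_zero] at this
    exact this

theorem coeff_zero_add {A : Type u} [CommRing A] (x y : TruncatedWittVector p 1 A) :
    (x + y).coeff 0 = x.coeff 0 + y.coeff 0 := by
  obtain ⟨X, rfl⟩ := WittVector.truncate_surjective p 1 _ x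
  obtain ⟨Y, rfl⟩ := WittVector.truncate_surjective p 1 _ y
  rw [← map_add, WittVector.coeff_truncate, WittVector.coeff_truncate, WittVector.coeff_truncate]
  exact WittVector.add_coeff_zero X Y

theorem coeff_zero_sub {A : Type u} [CommRing A] (x y : TruncatedWittVector p 1 A) :
    (x - y).coeff 0 = x.coeff 0 - y.coeff 0 := by
  have := coeff_zero_add (x - y) y
  rw [sub_add_cancel] at this
  rw [this, add_sub_cancel_right]

/-- A cocycle with values in truncated Witt vectors is a coboundary. -/
theorem exists_coboundary_witt (R S : Type u) [CommRing R] [CommRing S] [Algebra R S] [Module.FaithfullyFlat R S] :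
    ∀ (n : ℕ) (t : TruncatedWittVector p n (S ⊗[R] S)),
      truncMap p n (Groth.Agent.WittDescLib.g12 R S).toRingHom t +
          truncMap p n (Groth.Agent.WittDescLib.g23 R S).toRingHom t =
        truncMap p n (Groth.Agent.WittDescLib.g13 R S).toRingHom t →
      ∃ y : TruncatedWittVector p n S,
        truncMap p n (Algebra.TensorProduct.includeRight : S →ₐ[R] S ⊗[R] S).toRingHom y -
          truncMap p n (Algebra.TensorProduct.includeLeft : S →ₐ[R] S ⊗[R] S).toRingHom y = t := by
  intro n
  induction n with
  | zero => exact fun t _ => ⟨0, TruncatedWittVector.ext fun i => i.elim0⟩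
  | succ n ih =>
    intro t ht
    obtain ⟨y', hy'⟩ := ih (TruncatedWittVector.truncate (Nat.le_add_right n 1) t) (by
      rw [truncMap_truncateLE, truncMap_truncateLE, truncMap_truncateLE, ← map_add, ht])
    let y₀ : TruncatedWittVector p (n + 1) S :=
      TruncatedWittVector.mk p fun i => if hi : (i : ℕ) < n then y'.coeff ⟨i, hi⟩ else 0
    have hy₀ : TruncatedWittVector.truncate (Nat.le_add_right n 1) y₀ = y' := TruncatedWittVector.ext fun i => by
      rw [TruncatedWittVector.coeff_truncate, TruncatedWittVector.coeff_mk, dif_pos (by simp)]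
      congr 1
    let δ := truncMap p (n + 1) (Algebra.TensorProduct.includeRight : S →ₐ[R] S ⊗[R] S).toRingHom y₀ -
      truncMap p (n + 1) (Algebra.TensorProduct.includeLeft : S →ₐ[R] S ⊗[R] S).toRingHom y₀
    obtain ⟨c, hc⟩ := exists_lastIncl n (t - δ) (by
      rw [map_sub, map_sub, ← truncMap_truncateLE, ← truncMap_truncateLE, hy₀, hy', sub_self])
    have hδ : truncMap p (n + 1) (Groth.Agent.WittDescLib.g12 R S).toRingHom δ +
        truncMap p (n + 1) (Groth.Agent.WittDescLib.g23 R S).toRingHom δ =
        truncMap p (n + 1) (Groth.Agent.WittDescLib.g13 R S).toRingHom δ := by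
      refine eq_of_sub_eq_zero ?_
      simp only [δ, map_sub, ← RingHom.comp_apply, ← truncMap_comp]
      rw [show (Groth.Agent.WittDescLib.g12 R S).toRingHom.comp
          (Algebra.TensorProduct.includeLeft : S →ₐ[R] S ⊗[R] S).toRingHom =
          (Groth.Agent.WittDescLib.g13 R S).toRingHom.comp
          (Algebra.TensorProduct.includeLeft : S →ₐ[R] S ⊗[R] S).toRingHom from
        RingHom.ext fun x => by simp [Algebra.TensorProduct.one_def],
        show (Groth.Agent.WittDescLib.g23 R S).toRingHom.comp
          (Algebra.TensorProduct.includeLeft : S →ₐ[R] S ⊗[R] S).toRingHom =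
          (Groth.Agent.WittDescLib.g12 R S).toRingHom.comp
          (Algebra.TensorProduct.includeRight : S →ₐ[R] S ⊗[R] S).toRingHom from
        RingHom.ext fun x => by simp [Algebra.TensorProduct.one_def],
        show (Groth.Agent.WittDescLib.g23 R S).toRingHom.comp
          (Algebra.TensorProduct.includeRight : S →ₐ[R] S ⊗[R] S).toRingHom =
          (Groth.Agent.WittDescLib.g13 R S).toRingHom.comp
          (Algebra.TensorProduct.includeRight : S →ₐ[R] S ⊗[R] S).toRingHom from
        RingHom.ext fun x => by simp [Algebra.TensorProduct.one_def]]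
      abel
    have hc' : Groth.Agent.WittDescLib.g12 R S c + Groth.Agent.WittDescLib.g23 R S c =
        Groth.Agent.WittDescLib.g13 R S c := by
      have h1 : truncMap p (n + 1) (Groth.Agent.WittDescLib.g12 R S).toRingHom (t - δ) +
          truncMap p (n + 1) (Groth.Agent.WittDescLib.g23 R S).toRingHom (t - δ) =
          truncMap p (n + 1) (Groth.Agent.WittDescLib.g13 R S).toRingHom (t - δ) := by
        rw [map_sub _ t δ, map_sub _ t δ, map_sub _ t δ, ← ht, ← hδ]; abel
      rw [hc, lastIncl, truncMap_shift, truncMap_shift, truncMap_shift, ← map_add] at h1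
      have h2 := congrArg (fun v : TruncatedWittVector p (n + 1) _ => v.coeff ⟨n, Nat.lt_succ_self n⟩) h1
      simp only [coeff_shift] at h2
      rw [dif_pos (by omega), dif_pos (by omega)] at h2
      simp only [show n + 1 - 1 = n from Nat.add_sub_cancel n 1, Nat.sub_self, Fin.mk_zero, coeff_zero_add,
        coeff_truncMap, TruncatedWittVector.coeff_mk] at h2
      exact h2
    obtain ⟨z, hz⟩ := exists_coboundary_add R S c hc'
    refine ⟨y₀ + lastIncl n (TruncatedWittVector.mk p fun _ => z), ?_⟩
    rw [map_add, map_add, lastIncl, truncMap_shift, truncMap_shift, add_sub_add_comm, ← map_sub]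
    rw [show t = δ + (t - δ) by abel, hc, lastIncl]
    refine congrArg (fun v => δ + shift p (Nat.le_add_left 1 n) v) (TruncatedWittVector.ext fun i => ?_)
    rw [Subsingleton.elim i 0, coeff_zero_sub, coeff_truncMap, coeff_truncMap, TruncatedWittVector.coeff_mk,
      TruncatedWittVector.coeff_mk]
    exact hz

end WittExtLib
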