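import Mathlib
import Groth.Agent.WittExtLib.Amitsur

/-!
Regular functions and maps on vectors with components in a field.
-/

set_option autoImplicit false
set_option linter.style.haveILetI false

noncomputable section

universe u

open WittGrp

namespace WittExtLib

variable {p : ℕ} [Fact p.Prime] {k : Type u} [Field k]

/-- Regular functions with respect to a family of coordinate functions. -/
def Rg {α : Type*} {ι : Type*} (c : ι → α → k) : Subalgebra k (α → k) := Algebra.adjoin k (Set.range c)

theorem rg_coord {α : Type*} {ι : Type*} (c : ι → α → k) (i : ι) : c i ∈ Rg c := Algebra.subset_adjoin ⟨i, rfl⟩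

theorem rg_const {α : Type*} {ι : Type*} (c : ι → α → k) (r : k) : (fun _ => r) ∈ Rg c :=
  (Rg c).algebraMap_mem r

theorem rg_add {α : Type*} {ι : Type*} {c : ι → α → k} {g g' : α → k} (h : g ∈ Rg c) (h' : g' ∈ Rg c) :
    (fun a => g a + g' a) ∈ Rg c := add_mem h h'

theorem rg_sub {α : Type*} {ι : Type*} {c : ι → α → k} {g g' : α → k} (h : g ∈ Rg c) (h' : g' ∈ Rg c) :
    (fun a => g a - g' a) ∈ Rg c := sub_mem h h'

theorem rg_mul {α : Type*} {ι : Type*} {c : ι → α → k} {g g' : α → k} (h : g ∈ Rg c) (h' : g' ∈ Rg c) :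
    (fun a => g a * g' a) ∈ Rg c := mul_mem h h'

/-- Composition with a map with regular components. -/
theorem rg_comp {α β : Type*} {ι κ : Type*} {c : ι → α → k} {d : κ → β → k} {φ : β → α}
    (hφ : ∀ i, (fun b => c i (φ b)) ∈ Rg d) {g : α → k} (hg : g ∈ Rg c) : (fun b => g (φ b)) ∈ Rg d := by
  let F : (α → k) →ₐ[k] (β → k) := AlgHom.ofLinearMap
    { toFun := fun g b => g (φ b), map_add' := fun _ _ => rfl, map_smul' := fun _ _ => rfl } rfl fun _ _ => rfl
  have h : (Rg c).map F ≤ Rg d := by
    rw [Rg, AlgHom.map_adjoin]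
    refine Algebra.adjoin_le ?_
    rintro _ ⟨_, ⟨i, rfl⟩, rfl⟩
    exact hφ i
  exact h ⟨g, hg, rfl⟩

/-- A regular function is a polynomial in the coordinates. -/
theorem rg_exists_poly {α : Type*} {ι : Type*} {c : ι → α → k} {g : α → k} (hg : g ∈ Rg c) :
    ∃ P : MvPolynomial ι k, ∀ a, g a = MvPolynomial.eval (fun i => c i a) P := by
  rw [Rg, Algebra.adjoin_range_eq_range_aeval] at hg
  obtain ⟨P, rfl⟩ := hg
  refine ⟨P, fun a => ?_⟩
  show (Pi.evalAlgHom k (fun _ : α => k) a) (MvPolynomial.aeval c P) = _
  rw [← AlgHom.comp_apply, MvPolynomial.comp_aeval, MvPolynomial.aeval_eq_eval]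
  rfl

theorem rg_of_poly {α : Type*} {ι : Type*} (c : ι → α → k) (P : MvPolynomial ι k) :
    (fun a => MvPolynomial.eval (fun i => c i a) P) ∈ Rg c := by
  rw [Rg, Algebra.adjoin_range_eq_range_aeval]
  refine ⟨P, funext fun a => ?_⟩
  show (Pi.evalAlgHom k (fun _ : α => k) a) (MvPolynomial.aeval c P) = _
  rw [← AlgHom.comp_apply, MvPolynomial.comp_aeval, MvPolynomial.aeval_eq_eval]
  rfl

/-- The components of vectors. -/
def c1 (p : ℕ) [Fact p.Prime] (k : Type u) [Field k] (n : ℕ) : Fin n → TruncatedWittVector p n k → k :=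
  fun i v => v.coeff i

/-- The components of pairs of vectors. -/
def c2 (p : ℕ) [Fact p.Prime] (k : Type u) [Field k] (n : ℕ) :
    Fin n ⊕ Fin n → TruncatedWittVector p n k × TruncatedWittVector p n k → k :=
  Sum.elim (fun i v => v.1.coeff i) (fun i v => v.2.coeff i)

variable {α : Type*} {ι : Type*} {c : ι → α → k} {n m : ℕ}

/-- A map with regular components. -/
def IsRegMap (c : ι → α → k) (φ : α → TruncatedWittVector p n k) : Prop := ∀ i, (fun a => (φ a).coeff i) ∈ Rg c

theorem isRegMap_id : IsRegMap (c1 p k n) fun v => v := fun i => rg_coord (c1 p k n) i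

theorem isRegMap_fst : IsRegMap (c2 p k n) (Prod.fst : TruncatedWittVector p n k × TruncatedWittVector p n k → _) :=
  fun i => rg_coord (c2 p k n) (Sum.inl i)

theorem isRegMap_snd : IsRegMap (c2 p k n) (Prod.snd : TruncatedWittVector p n k × TruncatedWittVector p n k → _) :=
  fun i => rg_coord (c2 p k n) (Sum.inr i)

theorem isRegMap_const (v : TruncatedWittVector p n k) : IsRegMap c fun _ => v := fun _ => rg_const c _

theorem IsRegMap.comp {g : TruncatedWittVector p n k → k} (hg : g ∈ Rg (c1 p k n))
    {φ : α → TruncatedWittVector p n k} (hφ : IsRegMap c φ) : (fun a => g (φ a)) ∈ Rg c :=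
  rg_comp (c := c1 p k n) hφ hg

theorem IsRegMap.comp₂ {g : TruncatedWittVector p n k × TruncatedWittVector p n k → k} (hg : g ∈ Rg (c2 p k n))
    {φ ψ : α → TruncatedWittVector p n k} (hφ : IsRegMap c φ) (hψ : IsRegMap c ψ) :
    (fun a => g (φ a, ψ a)) ∈ Rg c :=
  rg_comp (c := c2 p k n) (φ := fun a => (φ a, ψ a)) (fun i => by cases i with | inl i => exact hφ i | inr i => exact hψ i) hg

theorem IsRegMap.truncate (h : n ≤ m) {φ : α → TruncatedWittVector p m k} (hφ : IsRegMap c φ) :
    IsRegMap c fun a => TruncatedWittVector.truncate h (φ a) := fun i => by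
  simp only [TruncatedWittVector.coeff_truncate]
  exact hφ _

theorem IsRegMap.shift (h : n ≤ m) {φ : α → TruncatedWittVector p n k} (hφ : IsRegMap c φ) :
    IsRegMap c fun a => WittGrp.shift p h (φ a) := fun i => by
  simp only [coeff_shift]
  split_ifs
  · exact hφ _
  · exact rg_const c 0

/-- The lift of a vector padded by zeros. -/
def padW (v : TruncatedWittVector p n k) : WittVector p k :=
  WittVector.mk p fun j => if hj : j < n then v.coeff ⟨j, hj⟩ else 0

theorem truncate_padW (v : TruncatedWittVector p n k) : WittVector.truncate n (padW v) = v :=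
  TruncatedWittVector.ext fun i => by simp [WittVector.coeff_truncate, padW]

theorem rg_coeff_padW {φ : α → TruncatedWittVector p n k} (hφ : IsRegMap c φ) (j : ℕ) :
    (fun a => (padW (φ a)).coeff j) ∈ Rg c := by
  simp only [padW, WittVector.coeff_mk]
  split_ifs
  · exact hφ _
  · exact rg_const c 0

theorem rg_peval {l : ℕ} (P : MvPolynomial (Fin l × ℕ) ℤ) {x : Fin l → ℕ → α → k}
    (hx : ∀ i j, x i j ∈ Rg c) : (fun a => WittVector.peval P fun i j => x i j a) ∈ Rg c := by
  induction P using MvPolynomial.induction_on with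
  | C r =>
    simp only [WittVector.peval, MvPolynomial.aeval_C]
    exact rg_const c _
  | add P Q hP hQ =>
    simp only [WittVector.peval, map_add]
    exact rg_add hP hQ
  | mul_X P ij hP =>
    simp only [WittVector.peval, map_mul, MvPolynomial.aeval_X]
    exact rg_mul hP (hx ij.1 ij.2)

theorem IsRegMap.add {φ ψ : α → TruncatedWittVector p n k} (hφ : IsRegMap c φ) (hψ : IsRegMap c ψ) :
    IsRegMap c fun a => φ a + ψ a := fun i => by
  have : (fun a => (φ a + ψ a).coeff i) = fun a => WittVector.peval (WittVector.wittAdd p i)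
      fun s j => ![fun j a => (padW (φ a)).coeff j, fun j a => (padW (ψ a)).coeff j] s j a := by
    funext a
    conv_lhs => rw [← truncate_padW (φ a), ← truncate_padW (ψ a), ← map_add, WittVector.coeff_truncate,
      WittVector.add_coeff]
    congr 1
    funext s j
    fin_cases s <;> rfl
  rw [this]
  refine rg_peval _ fun s j => ?_
  fin_cases s
  · exact rg_coeff_padW hφ j
  · exact rg_coeff_padW hψ j

theorem IsRegMap.neg {φ : α → TruncatedWittVector p n k} (hφ : IsRegMap c φ) : IsRegMap c fun a => -φ a := fun i => by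
  have : (fun a => (-φ a).coeff i) = fun a => WittVector.peval (WittVector.wittNeg p i)
      fun s j => ![fun j a => (padW (φ a)).coeff j] s j a := by
    funext a
    conv_lhs => rw [← truncate_padW (φ a), ← map_neg, WittVector.coeff_truncate, WittVector.neg_coeff]
    congr 1
    funext s j
    fin_cases s
    rfl
  rw [this]
  refine rg_peval _ fun s j => ?_
  fin_cases s
  exact rg_coeff_padW hφ j

theorem IsRegMap.sub {φ ψ : α → TruncatedWittVector p n k} (hφ : IsRegMap c φ) (hψ : IsRegMap c ψ) :
    IsRegMap c fun a => φ a - ψ a := by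
  simp only [sub_eq_add_neg]
  exact hφ.add hψ.neg

theorem IsRegMap.mul_const (r : TruncatedWittVector p n k) {φ : α → TruncatedWittVector p n k}
    (hφ : IsRegMap c φ) : IsRegMap c fun a => r * φ a := fun i => by
  have : (fun a => (r * φ a).coeff i) = fun a => WittVector.peval (WittVector.wittMul p i)
      fun s j => ![fun j (_ : α) => (padW r).coeff j, fun j a => (padW (φ a)).coeff j] s j a := by
    funext a
    conv_lhs => rw [← truncate_padW r, ← truncate_padW (φ a), ← map_mul, WittVector.coeff_truncate,
      WittVector.mul_coeff]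
    congr 1
    funext s j
    fin_cases s <;> rfl
  rw [this]
  refine rg_peval _ fun s j => ?_
  fin_cases s
  · exact rg_const c _
  · exact rg_coeff_padW hφ j

end WittExtLib
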